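import Cfsg.Agent.H835.Mon.Five
import Cfsg.Agent.H332.MonUpper
import Cfsg.Agent.H849.FiModel
import Cfsg.Agent.BpSpor.MBigEleven
import Cfsg.Agent.R08.FiTwentyFour
import Cfsg.Agent.SylowL5.Coords
import Cfsg.Agent.S1704
import Cfsg.Agent.S5531
import Cfsg.Agent.S5534

/-!
# The Monster: `Sep 5` (helper835; row `M` of S5906 and S5907)
-/

set_option autoImplicit false

namespace Cfsg.Agent.H835.Mon.Row

open Subgroup
open Cfsg Cfsg.Spor Cfsg.Agent.MonsterU.Lam2 Cfsg.Agent.Co2Type.Quad
open Cfsg.Agent.MonsterU.Ch (Chart)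
open Cfsg.Spor (Co1)
open Cfsg.Agent.OrdDiv Cfsg.Agent.H940.Eng Cfsg.Agent.H940.Eng.D Cfsg.Agent.H940.MaxCls
open Cfsg.Agent.BpSpor.MBigModel (MG zz)

theorem card_cent_equiv {A B : Type*} [Group A] [Group B] (e : A ≃* B) (x : A) :
    Nat.card (centralizer ({e x} : Set B)) = Nat.card (centralizer ({x} : Set A)) := by
  have h1 : centralizer ({e x} : Set B) = (centralizer ({x} : Set A)).map e.toMonoidHom := by
    ext y
    rw [mem_map_equiv, mem_centralizer_singleton_iff, mem_centralizer_singleton_iff]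
    constructor
    · intro h
      apply e.injective
      rw [map_mul, map_mul, e.apply_symm_apply, h]
    · intro h
      have h2 := congrArg e h
      rwa [map_mul, map_mul, e.apply_symm_apply] at h2
  rw [h1]
  exact card_map_of_injective e.injective

theorem card_cent_model {v : MG} (hv : orderOf v = 2) :
    Nat.card (centralizer ({v} : Set MG)) = 2 ^ 25 * 4157776806543360000 ∨
      Nat.card (centralizer ({v} : Set MG)) = 2 * 4154781481226426191177580544000000 := by
  rcases BpSpor.MBigModel.cls hv with ⟨g, hg⟩ | h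
  · left
    rw [BpSpor.card_cent_of_conj hg, BpSpor.MBigModel.card_cent_z]
  · right
    exact BpSpor.MBigModel.card_cent_t h

theorem exists_y : ∃ (y s : Spor.Monster) (ρ : centralizer ({y} : Set Spor.Monster) →* ↥(_root_.commutator Spor.Fi24)),
    H849.ThreeNorm.Data y s ρ := by
  obtain ⟨x, t, π, D⟩ := H849.FiModel.exists_data
  obtain ⟨e⟩ := MonsterP.Equiv.equiv
  obtain ⟨π', D'⟩ := D.exists_map e.symm
  exact ⟨_, _, π', D'⟩

theorem finite : Finite Spor.Monster := H848.MonsterSetup.finite

/-- **the data** -/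
theorem exists_dat (B : Base) : ∃ (Q : Subgroup Spor.Monster) (z : Spor.Monster) (eta : Spor.Monster → L2)
    (pi : Subgroup.centralizer ({z} : Set Spor.Monster) →* Co1), Dat Spor.Monster Q z eta pi := by
  have := finite
  obtain ⟨e⟩ := MonsterP.Equiv.equiv
  have hc := H848.Setup.chart_transport e BpSpor.MBigModel.chart
  refine ⟨_, _, _, _, ⟨finite, H848.MonsterSetup.simple, H848.MonsterSetup.card, hc, ?_, ?_, ?_, ?_, ords_m B⟩⟩
  · rw [card_cent_equiv e.symm, BpSpor.MBigModel.card_cent_z]
  · intro v hv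
    rw [← card_cent_equiv e v]
    refine card_cent_model ?_
    rw [← hv]
    exact orderOf_injective e.toMonoidHom e.injective v
  · obtain ⟨y, s, ρ, E⟩ := exists_y
    refine ⟨y, E.ord, ?_⟩
    rw [E.card_C, R08.FiTwentyFour.card_commutator]
  · intro E hE h2
    exact H332.MonUpper.monster_le E ⟨⟨fun a b => Subtype.ext (hE a a.2 b b.2)⟩⟩ h2

/-- **the row `M`** -/
theorem five (B : Base) : Sep 5 Spor.Monster := by
  have := finite
  have hsm := H848.MonsterSetup.simple
  obtain ⟨Q, z, eta, pi, d⟩ := exists_dat B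
  obtain ⟨t, ht, hcov⟩ := S5534.result
  have hB := S1704.result
  have hcard : Nat.card (centralizer ({t} : Set Spor.Monster)) = 2 * 4154781481226426191177580544000000 := by
    obtain ⟨h1, ⟨f⟩, -⟩ := hcov
    rw [card_eq_card_quotient_mul_card_subgroup (center (centralizer ({t} : Set Spor.Monster))), h1,
      Nat.card_congr f.toEquiv, hB.2]
  obtain ⟨y, s, ρ, E⟩ := exists_y
  obtain ⟨V, N, O, hV, hVc, hN, -, hO, -, hOn, ⟨f⟩⟩ := S5531.result
  have hNc : Nat.card N = 2 ^ 46 * 29295 := by
    rw [card_eq_card_quotient_mul_card_subgroup O, hO, Nat.card_congr f.toEquiv, Nat.card_prod,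
      SylowL5.Coords.card_SL, Nat.card_perm, Nat.card_eq_fintype_card, Fintype.card_fin]
    norm_num [Nat.factorial]
  refine d.five ht hB.1 hcov hcard E R08.FiTwentyFour.isFi24'.1 R08.FiTwentyFour.card_commutator N ?_ ?_ ?_
  · rw [hNc]; exact dvd_mul_right _ _
  · rw [hNc]; norm_num
  · intro h
    rw [h, card_top, d.card] at hNc
    revert hNc
    decide +kernel

end Cfsg.Agent.H835.Mon.Row
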