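import Cfsg.Agent.H835.Mon.CentZ
import Cfsg.Agent.H849.ThreeNorm
import Cfsg.Prelude.Def_SporadicB

/-!
# `C(t)` (`2.B`) and `N(⟨y⟩)` (`3.Fi24`) are maximal subgroups of the Monster (helper835)
-/

set_option autoImplicit false

namespace Cfsg.Agent.H835.Mon

open Subgroup
open Cfsg Cfsg.Spor Cfsg.Agent.MonsterU.Lam2 Cfsg.Agent.Co2Type.Quad
open Cfsg.Agent.MonsterU.Ch (Chart)
open Cfsg.Spor (Co1)
open Cfsg.Agent.OrdDiv Cfsg.Agent.H940.Eng Cfsg.Agent.H940.Eng.D Cfsg.Agent.H417.Quasi

/-- the normal subgroups of a nonsplit double cover -/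
theorem cover_normal {D B : Type*} [Group D] [Group B] [Finite D] (hB : IsSimpleGroup B) (h : IsNonsplitDoubleCover D B)
    (K : Subgroup D) (hK : K.Normal) : K ≤ center D ∨ K = ⊤ := by
  obtain ⟨hc, ⟨e⟩, hns⟩ := h
  have hs : IsSimpleGroup (D ⧸ center D) := e.isSimpleGroup
  let f : D →* D ⧸ center D := QuotientGroup.mk' (center D)
  have hf : Function.Surjective f := QuotientGroup.mk'_surjective _
  have hker : f.ker = center D := QuotientGroup.ker_mk' _
  rcases (hK.map f hf).eq_bot_or_eq_top with h1 | h1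
  · left
    rw [Subgroup.map_eq_bot_iff, hker] at h1
    exact h1
  · right
    have h2 : K ⊔ center D = ⊤ := by
      rw [← hker, ← comap_map_eq, h1, comap_top]
    by_cases hb : K ⊓ center D = ⊥
    · exfalso
      refine hns K ?_
      rw [isComplement'_comm]
      exact isComplement'_of_disjoint_and_mul_eq_univ (disjoint_iff.2 hb) (by
        rw [← normal_mul, h2]; rfl)
    · have h3 : center D ≤ K := by
        have h4 : Nat.card ↥(K ⊓ center D) ∣ 2 := by
          rw [← hc]
          exact card_dvd_of_le inf_le_right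
        rcases (Nat.dvd_prime Nat.prime_two).1 h4 with h5 | h5
        · exact absurd (card_eq_one.1 h5) hb
        · have h6 : K ⊓ center D = center D := by
            apply eq_of_le_of_card_ge inf_le_right
            rw [h5, hc]
          exact inf_eq_right.1 h6
      rw [← h2, sup_eq_left.2 h3]

variable {G : Type} [Group G] {Q : Subgroup G} {z : G} {eta : G → L2}
  {pi : Subgroup.centralizer ({z} : Set G) →* Co1} (d : Dat G Q z eta pi)
include d

/-- the order of a normal subgroup meeting `D` in a subgroup of `⟨y⟩` -/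
theorem Dat.card_mul_dvd {H D : Subgroup G} (hDH : D ≤ H) {y : G} (N : Subgroup H) [N.Normal]
    (hND : N.map H.subtype ⊓ D ≤ zpowers y) : Nat.card N * Nat.card D ∣ orderOf y * Nat.card H := by
  have := d.fin
  have h1 := card_sup_mul_card_inf N (D.subgroupOf H)
  have h2 : Nat.card (D.subgroupOf H) = Nat.card D := Nat.card_congr (subgroupOfEquivOfLe hDH).toEquiv
  have h3 : Nat.card ↥(N ⊓ D.subgroupOf H) ∣ orderOf y := by
    rw [← Nat.card_zpowers, ← card_map_sub]
    refine card_dvd_of_le (le_trans ?_ hND)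
    rintro _ ⟨n, hn, rfl⟩
    exact ⟨⟨n, hn.1, rfl⟩, hn.2⟩
  rw [← h2, ← h1, mul_comm]
  exact Nat.mul_dvd_mul h3 (card_subgroup_dvd_card _)

/-- **`C(t)` is maximal** -/
theorem Dat.coatom_t {t : G} (ht : orderOf t = 2) (hB : IsSimpleGroup Spor.BabyMonster)
    (hcov : IsNonsplitDoubleCover (centralizer ({t} : Set G)) Spor.BabyMonster)
    (hcard : Nat.card (centralizer ({t} : Set G)) = 2 * 4154781481226426191177580544000000) :
    IsCoatom (centralizer ({t} : Set G)) := by
  have := d.fin
  have hs := d.simple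
  set D := centralizer ({t} : Set G) with hD
  have htD : t ∈ D := mem_centralizer_singleton_iff.2 rfl
  have hcen : ∀ x : D, x ∈ center D → (x : G) ∈ zpowers t := by
    intro x hx
    have h1 : zpowers (⟨t, htD⟩ : D) ≤ center D := by
      rw [zpowers_le, mem_center_iff]
      intro g
      exact Subtype.ext (mem_centralizer_singleton_iff.1 g.2)
    have h2 : zpowers (⟨t, htD⟩ : D) = center D := by
      apply eq_of_le_of_card_ge h1
      rw [hcov.1, Nat.card_zpowers, Subgroup.orderOf_mk, ht]
    rw [← h2] at hx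
    obtain ⟨k, hk⟩ := mem_zpowers_iff.1 hx
    exact mem_zpowers_iff.2 ⟨k, congrArg Subtype.val hk⟩
  have hnorm : ∀ K : Subgroup G, K ≤ D → (∀ c ∈ D, ∀ k ∈ K, c * k * c⁻¹ ∈ K) → K ≤ zpowers t ∨ K = D := by
    intro K hK hKn
    have hn : (K.subgroupOf D).Normal := ⟨fun k hk c => hKn c c.2 k hk⟩
    rcases cover_normal hB hcov (K.subgroupOf D) hn with h | h
    · left
      intro k hk
      exact hcen ⟨k, hK hk⟩ (h hk)
    · right
      exact le_antisymm hK (subgroupOf_eq_top.1 h)
  have hna : ¬ ∀ a ∈ D, ∀ b ∈ D, a * b = b * a := by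
    intro h
    have h1 : center D = ⊤ := by
      rw [eq_top_iff]
      intro x _
      rw [mem_center_iff]
      intro g
      exact Subtype.ext (h g g.2 x x.2)
    have h2 := hcov.1
    rw [h1, card_top, hcard] at h2
    norm_num at h2
  refine ⟨fun h => ?_, fun H hH => ?_⟩
  · rw [h, card_top, d.card] at hcard
    revert hcard
    decide +kernel
  have hDH : D ≤ H := hH.le
  obtain ⟨h₀, hh₀, hh₀t⟩ : ∃ h ∈ H, h ∉ D := by
    by_contra hcon
    push Not at hcon
    exact absurd (le_antisymm hDH hcon) hH.ne
  obtain ⟨M, hM, hMs, hDM⟩ := quasi t (q := 2) (r := 47) Nat.prime_two (by norm_num) ht (by norm_num) hnorm hna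
    (by rw [← hD, hcard]; norm_num) (by
      intro h
      rw [d.card] at h
      exact absurd (Nat.mod_eq_zero_of_dvd h) (by decide +kernel)) H hDH ⟨h₀, hh₀, fun h => by
      apply hh₀t
      rw [hD, mem_centralizer_singleton_iff, ← mul_inv_eq_iff_eq_mul]
      have h1 : h₀ * t * h₀⁻¹ = 1 ∨ h₀ * t * h₀⁻¹ = t := by
        obtain ⟨k, hk⟩ := mem_zpowers_iff.1 h
        have htt : t ^ (2 : ℤ) = 1 := by
          rw [show (2 : ℤ) = ((2 : ℕ) : ℤ) from rfl, zpow_natCast, ← ht, pow_orderOf_eq_one]
        rcases Int.even_or_odd' k with ⟨m, rfl | rfl⟩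
        · left; rw [← hk, zpow_mul, htt, one_zpow]
        · right; rw [← hk, zpow_add, zpow_mul, htt, one_zpow, one_mul, zpow_one]
      rcases h1 with h1 | h1
      · exfalso
        have h2 : t = 1 := by
          calc t = h₀⁻¹ * (h₀ * t * h₀⁻¹) * h₀ := by group
            _ = 1 := by rw [h1]; group
        rw [h2, orderOf_one] at ht
        norm_num at ht
      · exact h1⟩ (by
      intro N hN _ hND
      have h1 := d.card_mul_dvd hDH N hND
      have h2 : Nat.card N * Nat.card D ∣ 2 * n_m := by
        rw [← ht, ← d.card]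
        exact h1.trans (Nat.mul_dvd_mul_left _ (card_subgroup_dvd_card H))
      rw [hcard] at h2
      have h3 : 2 * n_m = 194478922284018372000 * (2 * 4154781481226426191177580544000000) := by decide +kernel
      rw [h3] at h2
      exact triv47.of_dvd (Nat.dvd_of_mul_dvd_mul_right (by norm_num) h2))
  have hdv : 2 * 4154781481226426191177580544000000 ∣ Nat.card M := by
    rw [← hcard, ← card_map_sub M]
    exact card_dvd_of_le hDM
  rcases d.simple_card M hMs with h | h
  · exfalso
    have h4 : 4 ∣ Nat.card M := (by norm_num : 4 ∣ 2 * 4154781481226426191177580544000000).trans hdv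
    have h5 : 2 ∣ Nat.card M := (by norm_num : 2 ∣ 4).trans h4
    rw [← (Nat.prime_dvd_prime_iff_eq Nat.prime_two h).1 h5] at h4
    norm_num at h4
  · exact d.top_of_card M (tab3 _ h hdv)

/-- **`N(⟨y⟩)` is maximal** -/
theorem Dat.coatom_y {F : Type*} [Group F] {y t : G} {ρ : centralizer ({y} : Set G) →* ↥(_root_.commutator F)}
    (E : H849.ThreeNorm.Data y t ρ) (hF : IsSimpleGroup ↥(_root_.commutator F))
    (hFc : Nat.card ↥(_root_.commutator F) = 1255205709190661721292800) :
    IsCoatom (normalizer ((zpowers y : Subgroup G) : Set G)) ∧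
      Nat.card (normalizer ((zpowers y : Subgroup G) : Set G)) = 6 * 1255205709190661721292800 := by
  have := d.fin
  have hs := d.simple
  have hf2 : Fact (Nat.Prime 2) := ⟨Nat.prime_two⟩
  have hf59 : Fact (Nat.Prime 59) := ⟨by norm_num⟩
  have hcard : Nat.card (centralizer ({y} : Set G)) = 3 * 1255205709190661721292800 := by
    rw [E.card_C, hFc]
  let D : Subgroup G := centralizer ({y} : Set G)
  have hD : D = centralizer ({y} : Set G) := rfl
  have hcard : Nat.card D = 3 * 1255205709190661721292800 := hcard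
  set N₀ := normalizer ((zpowers y : Subgroup G) : Set G) with hN₀
  have hDN : D ≤ N₀ := H849.ThreeNorm.cent_le
  have hNc : Nat.card N₀ = 6 * 1255205709190661721292800 := by
    have h1 := card_mul_index (D.subgroupOf N₀)
    rw [Nat.card_congr (subgroupOfEquivOfLe hDN).toEquiv, hcard] at h1
    have h2 : (D.subgroupOf N₀).index = 2 := E.index_two
    rw [h2] at h1
    rw [← h1]
  refine ⟨?_, hNc⟩
  have hnorm : ∀ K : Subgroup G, K ≤ D → (∀ c ∈ D, ∀ k ∈ K, c * k * c⁻¹ ∈ K) → K ≤ zpowers y ∨ K = D := by
    intro K hK hKn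
    have hn : (K.subgroupOf D).Normal := ⟨fun k hk c => hKn c c.2 k hk⟩
    rcases (hn.map ρ E.surj).eq_bot_or_eq_top with h | h
    · left
      intro k hk
      rw [Subgroup.map_eq_bot_iff] at h
      have h1 : (⟨k, hK hk⟩ : D) ∈ ρ.ker := h hk
      exact (E.ker _).1 h1
    · right
      have h1 : ∀ g : D, ∃ l ∈ K.subgroupOf D, ((l⁻¹ * g : D) : G) ∈ zpowers y := by
        intro g
        have h2 : ρ g ∈ (K.subgroupOf D).map ρ := by rw [h]; exact mem_top _
        obtain ⟨l, hl, hlg⟩ := h2
        refine ⟨l, hl, ?_⟩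
        rw [← E.ker, map_mul, map_inv, hlg, inv_mul_cancel]
      have hyK := E.mem_of_cover (K.subgroupOf D) h1
      refine le_antisymm hK fun g hg => ?_
      obtain ⟨l, hl, hlg⟩ := h1 ⟨g, hg⟩
      have h2 : zpowers y ≤ K := by
        rw [zpowers_le]
        exact hyK
      have h3 : g = (l : G) * ((l⁻¹ * ⟨g, hg⟩ : D) : G) := by
        show g = (l : G) * ((l : G)⁻¹ * g)
        group
      rw [h3]
      exact K.mul_mem hl (h2 hlg)
  have hna : ¬ ∀ a ∈ D, ∀ b ∈ D, a * b = b * a := by
    intro h
    have h1 : ∀ a b : ↥(_root_.commutator F), a * b = b * a := by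
      intro a b
      obtain ⟨a, rfl⟩ := E.surj a
      obtain ⟨b, rfl⟩ := E.surj b
      have h2 : a * b = b * a := Subtype.ext (h a a.2 b b.2)
      rw [← map_mul, h2, map_mul]
    let _ : CommGroup ↥(_root_.commutator F) := { (inferInstance : Group ↥(_root_.commutator F)) with mul_comm := h1 }
    have h2 : Finite ↥(_root_.commutator F) := Nat.finite_of_card_ne_zero (by rw [hFc]; norm_num)
    have h3 := IsSimpleGroup.prime_card (α := ↥(_root_.commutator F))
    rw [hFc] at h3
    norm_num at h3
  refine ⟨fun h => ?_, fun H hH => ?_⟩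
  · rw [h, card_top, d.card] at hNc
    revert hNc
    decide +kernel
  have hDH : D ≤ H := hDN.trans hH.le
  obtain ⟨h₀, hh₀, hh₀t⟩ : ∃ h ∈ H, h ∉ N₀ := by
    by_contra hcon
    push Not at hcon
    exact absurd (le_antisymm hH.le hcon) hH.ne
  obtain ⟨M, hM, hMs, hDM⟩ := quasi y (q := 3) (r := 29) Nat.prime_three (by norm_num) E.ord (by norm_num) hnorm hna
    (by rw [← hD, hcard]; norm_num) (by
      intro h
      rw [d.card] at h
      exact absurd (Nat.mod_eq_zero_of_dvd h) (by decide +kernel)) H hDH ⟨h₀, hh₀, fun h => by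
      apply hh₀t
      apply H849.ThreeNorm.mem_N_of
      rcases H849.ThreeNorm.mem_zp E.ord h with h1 | h1 | h1
      · exfalso
        apply H849.ThreeNorm.ne_one E.ord
        calc y = h₀⁻¹ * (h₀ * y * h₀⁻¹) * h₀ := by group
          _ = 1 := by rw [h1]; group
      · exact Or.inl h1
      · exact Or.inr h1⟩ (by
      intro N hN _ hND
      have h1 := d.card_mul_dvd hDH N hND
      rw [E.ord] at h1
      have h2 : Nat.card N * Nat.card D ∣ 3 * n_m := by
        rw [← d.card]
        exact h1.trans (Nat.mul_dvd_mul_left _ (card_subgroup_dvd_card H))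
      rw [hcard] at h2
      have h3 : 3 * n_m = 59 * 10910730001832112291840000000 * (3 * 1255205709190661721292800) := by decide +kernel
      rw [h3] at h2
      have h4 : Nat.card N ∣ 59 * 10910730001832112291840000000 := Nat.dvd_of_mul_dvd_mul_right (by norm_num) h2
      -- `59 ∤ |N|`
      have h59 : ¬ 59 ∣ Nat.card N := by
        intro h59
        obtain ⟨X⟩ : Nonempty (Sylow 59 N) := inferInstance
        have hNpos : Nat.card N ≠ 0 := Nat.card_pos.ne'
        have hX1 : Nat.card X = 59 := by
          have h5 := X.card_eq_multiplicity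
          have h6 : (Nat.card N).factorization 59 = 1 := by
            refine le_antisymm ?_ ((hf59.out.dvd_iff_one_le_factorization hNpos).1 h59)
            by_contra hlt
            push Not at hlt
            have h7 : 59 ^ 2 ∣ Nat.card N := (pow_dvd_pow 59 hlt).trans (Nat.ordProj_dvd _ _)
            have h8 : 59 ^ 2 ∣ n_m := by
              rw [← d.card]
              exact h7.trans ((card_subgroup_dvd_card N).trans (card_subgroup_dvd_card H))
            exact absurd (Nat.mod_eq_zero_of_dvd h8) (by decide +kernel)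
          rw [h6, pow_one] at h5
          exact h5
        set X' : Subgroup H := (X : Subgroup N).map N.subtype with hX'
        have hX'c : Nat.card X' = 59 := by rw [hX', card_map_sub]; exact hX1
        obtain ⟨x, hx⟩ := exists_prime_orderOf_dvd_card' (G := X') 59 (by rw [hX'c])
        have hxo : orderOf (x : H) = 59 := by rw [Subgroup.orderOf_coe, hx]
        have hX'x : X' = zpowers (x : H) := by
          symm
          apply eq_of_le_of_card_ge
          · rw [zpowers_le]; exact x.2
          · rw [hX'c, Nat.card_zpowers, hxo]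
        have hfr := X.normalizer_sup_eq_top
        rw [← hX'] at hfr
        set N₁ := normalizer (X' : Set H) with hN₁
        have h5 := card_sup_mul_card_inf N N₁
        rw [sup_comm, hfr, card_top] at h5
        have h6 : Nat.card H ∣ Nat.card N * Nat.card N₁ := Dvd.intro _ h5
        have h7 : Nat.card N * Nat.card D ∣ Nat.card N * (3 * Nat.card N₁) := by
          refine h1.trans ?_
          calc 3 * Nat.card H ∣ 3 * (Nat.card N * Nat.card N₁) := Nat.mul_dvd_mul_left _ h6
            _ = Nat.card N * (3 * Nat.card N₁) := by ring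
        have h8 := Nat.dvd_of_mul_dvd_mul_left (Nat.pos_of_ne_zero hNpos) h7
        rw [hcard] at h8
        have h9 : 1255205709190661721292800 ∣ Nat.card N₁ := Nat.dvd_of_mul_dvd_mul_left (by norm_num) h8
        have h10 : 2 ^ 21 ∣ Nat.card N₁ := (by norm_num : 2 ^ 21 ∣ 1255205709190661721292800).trans h9
        obtain ⟨T, hT⟩ := Sylow.exists_subgroup_card_pow_prime 2 h10
        have hTp : IsPGroup 2 ↥(T.map N₁.subtype) := IsPGroup.of_card (n := 21) (by rw [card_map_sub, hT])
        obtain ⟨v, hv, hvo, hvx⟩ := exists_inv hxo (T.map N₁.subtype) hTp (by rw [card_map_sub, hT]; norm_num) (by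
          rintro _ ⟨t, ht, rfl⟩
          have h11 := (mem_normalizer_iff.1 (hN₁ ▸ t.2 : (t : H) ∈ normalizer (X' : Set H)) x).1 x.2
          exact hX'x.le h11)
        exact d.no_comm (r := 59) (by norm_num) (by norm_num) (x := ((x : H) : G)) (v := (v : G))
          (by rw [Subgroup.orderOf_coe, hxo]) (by rw [Subgroup.orderOf_coe, hvo]) (congrArg Subtype.val hvx)
      have h5 : Nat.Coprime (Nat.card N) 59 := (Nat.coprime_comm.1 ((Nat.Prime.coprime_iff_not_dvd hf59.out).2 h59))
      exact triv29.of_dvd (h5.dvd_of_dvd_mul_left h4))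
  have hdv : 3 * 1255205709190661721292800 ∣ Nat.card M := by
    rw [← hcard, ← card_map_sub M]
    exact card_dvd_of_le hDM
  rcases d.simple_card M hMs with h | h
  · exfalso
    have h4 : 4 ∣ Nat.card M := (by norm_num : 4 ∣ 3 * 1255205709190661721292800).trans hdv
    have h5 : 2 ∣ Nat.card M := (by norm_num : 2 ∣ 4).trans h4
    rw [← (Nat.prime_dvd_prime_iff_eq Nat.prime_two h).1 h5] at h4
    norm_num at h4
  · exact d.top_of_card M (tab4 _ h hdv)

end Cfsg.Agent.H835.Mon
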