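import Cfsg.Agent.H835.Mon.Grp
import Cfsg.Agent.MonsterU.Chart
import Cfsg.Agent.S0399

/-!
# Subgroups normalised by `Q` or by `C(z)` (helper835)
-/

set_option autoImplicit false

namespace Cfsg.Agent.H835.Mon

open Subgroup
open Cfsg Cfsg.Spor Cfsg.Agent.MonsterU.Lam2 Cfsg.Agent.Co2Type.Quad
open Cfsg.Agent.MonsterU.Ch (Chart)
open Cfsg.Spor (Co1)

section Lg

variable {G : Type*} [Group G] {Q : Subgroup G} {z : G} (h : Large Q z)
include h

/-- a nontrivial subgroup of `C(z)` normalised by `Q` contains `z` -/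
theorem z_mem_of (K : Subgroup G) (hK : K ≤ centralizer ({z} : Set G)) (hKQ : ∀ x ∈ Q, ∀ k ∈ K, x * k * x⁻¹ ∈ K)
    (hb : K ≠ ⊥) : z ∈ K := by
  obtain ⟨k, hk, hk1⟩ : ∃ k, k ∈ K ∧ k ≠ 1 := by
    by_contra hcon
    push Not at hcon
    exact hb (eq_bot_iff.2 fun k hk => mem_bot.2 (hcon k hk))
  have hkz : k * z = z * k := mem_centralizer_singleton_iff.1 (hK hk)
  by_cases hc : ∀ x ∈ Q, k * x = x * k
  · have hkQ := h.self k hkz hc
    rcases h.cent k hkQ hc with h1 | h1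
    · exact absurd h1 hk1
    · rwa [← h1]
  · push Not at hc
    obtain ⟨x, hx, hkx⟩ := hc
    set u := k * (x * k⁻¹ * x⁻¹) with hu
    have huK : u ∈ K := K.mul_mem hk (hKQ x hx _ (K.inv_mem hk))
    have huQ : u ∈ Q := by
      have e : u = (k * x * k⁻¹) * x⁻¹ := by rw [hu]; group
      rw [e]
      exact Q.mul_mem (h.conj_mem k hkz x hx) (Q.inv_mem hx)
    have hu1 : u ≠ 1 := by
      intro h1
      apply hkx
      have e : k * x = u * (x * k) := by rw [hu]; group
      rw [e, h1, one_mul]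
    by_cases hc : ∀ y ∈ Q, u * y = y * u
    · rcases h.cent u huQ hc with h1 | h1
      · exact absurd h1 hu1
      · rwa [← h1]
    · push Not at hc
      obtain ⟨y, hy, huy⟩ := hc
      rcases h.comm u huQ y hy with h1 | h1
      · exact absurd h1 huy
      · have e : z = (u⁻¹) * (y⁻¹ * u * y) := by
          calc z = (y * u)⁻¹ * (y * u * z) := by group
            _ = (y * u)⁻¹ * (u * y) := by rw [h1]
            _ = _ := by group
        rw [e]
        refine K.mul_mem (K.inv_mem huK) ?_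
        have := hKQ y⁻¹ (Q.inv_mem hy) u huK
        rwa [inv_inv] at this

/-- a subgroup normalised by `Q` and meeting `Q` trivially meets `C(z)` trivially -/
theorem inf_cent_eq_bot (N : Subgroup G) (hNQ : ∀ x ∈ Q, ∀ n ∈ N, x * n * x⁻¹ ∈ N) (hd : ∀ n ∈ N, n ∈ Q → n = 1)
    {n : G} (hn : n ∈ N) (hnz : n * z = z * n) : n = 1 := by
  refine hd n hn (h.self n hnz fun x hx => ?_)
  have h1 : n * (x * n⁻¹ * x⁻¹) ∈ N := N.mul_mem hn (hNQ x hx _ (N.inv_mem hn))
  have h2 : n * (x * n⁻¹ * x⁻¹) ∈ Q := by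
    have e : n * (x * n⁻¹ * x⁻¹) = (n * x * n⁻¹) * x⁻¹ := by group
    rw [e]
    exact Q.mul_mem (h.conj_mem n hnz x hx) (Q.inv_mem hx)
  have h3 := hd _ h1 h2
  have e : n * x = n * (x * n⁻¹ * x⁻¹) * (x * n) := by group
  rw [e, h3, one_mul]

/-- a finite subgroup normalised by `Q` and meeting `Q` trivially is abelian -/
theorem comm_of_disjoint [Finite G] (N : Subgroup G) (hNQ : ∀ x ∈ Q, ∀ n ∈ N, x * n * x⁻¹ ∈ N)
    (hd : ∀ n ∈ N, n ∈ Q → n = 1) {a b : G} (ha : a ∈ N) (hb : b ∈ N) : a * b = b * a := by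
  let φ : N →* N :=
    { toFun := fun n => ⟨z * n * z⁻¹, hNQ z h.z_mem n n.2⟩
      map_one' := Subtype.ext (by show z * 1 * z⁻¹ = 1; group)
      map_mul' := fun m n => Subtype.ext (by
        show z * (m * n : G) * z⁻¹ = (z * m * z⁻¹) * (z * n * z⁻¹)
        group) }
  have h1 : MonoidHom.FixedPointFree φ := by
    intro n hn
    have h2 : z * n * z⁻¹ = n := congrArg Subtype.val hn
    refine Subtype.ext (inf_cent_eq_bot h N hNQ hd n.2 ?_)
    rw [mul_inv_eq_iff_eq_mul] at h2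
    exact h2.symm
  have h2 : Function.Involutive φ := by
    intro n
    apply Subtype.ext
    show z * (z * n * z⁻¹) * z⁻¹ = n
    calc z * (z * n * z⁻¹) * z⁻¹ = (z * z) * n * (z * z)⁻¹ := by group
      _ = n := by rw [h.z_sq]; group
  exact congrArg Subtype.val (h1.commute_all_of_involutive h2 ⟨a, ha⟩ ⟨b, hb⟩).eq

/-- **the action of an overgroup `S ≤ C(z)` of `Q` on a nontrivial subgroup meeting `Q` trivially is faithful** -/
theorem card_dvd_mulAut [Finite G] (S N : Subgroup G) (hQS : Q ≤ S) (hSC : S ≤ centralizer ({z} : Set G))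
    (hNS : ∀ x ∈ S, ∀ n ∈ N, x * n * x⁻¹ ∈ N) (hd : ∀ n ∈ N, n ∈ Q → n = 1) (hb : N ≠ ⊥) :
    Nat.card S ∣ Nat.card (MulAut N) := by
  have hS : S ≤ normalizer (N : Set G) := by
    intro x hx
    rw [mem_normalizer_iff]
    intro n
    refine ⟨fun hn => hNS x hx n hn, fun hn => ?_⟩
    have := hNS x⁻¹ (S.inv_mem hx) _ hn
    have e : x⁻¹ * (x * n * x⁻¹) * x⁻¹⁻¹ = n := by group
    rwa [e] at this
  let f : S →* MulAut N := (MulAut.conjNormal (H := N.subgroupOf (normalizer (N : Set G)))).comp (inclusion hS) |>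
    fun g => (MulEquiv.toMonoidHom (MulAut.congr (subgroupOfEquivOfLe (le_normalizer (H := N))))).comp g
  have hf : ∀ (x : S) (n : N), ((f x n : N) : G) = x * n * (x : G)⁻¹ := fun x n => rfl
  refine card_dvd_of_injective f ?_
  rw [injective_iff_map_eq_one]
  intro x hx
  by_contra hx1
  have hc : ∀ n ∈ N, (x : G) * n = n * x := by
    intro n hn
    have h1 := hf x ⟨n, hn⟩
    rw [hx] at h1
    have h2 : n = x * n * (x : G)⁻¹ := h1
    nth_rewrite 2 [h2]
    group
  -- the kernel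
  let K : Subgroup G := S ⊓ centralizer (N : Set G)
  have hK : ∀ k, k ∈ K ↔ k ∈ S ∧ ∀ n ∈ N, n * k = k * n := fun k => by
    rw [mem_inf, mem_centralizer_iff]
    rfl
  have hzK : z ∈ K := by
    refine z_mem_of h K (inf_le_left.trans hSC) (fun q hq k hk => ?_) ?_
    · rw [hK] at hk ⊢
      refine ⟨S.mul_mem (S.mul_mem (hQS hq) hk.1) (S.inv_mem (hQS hq)), fun n hn => ?_⟩
      have h3 := hk.2 (q⁻¹ * n * q) (by
        have := hNS q⁻¹ (S.inv_mem (hQS hq)) n hn
        rwa [inv_inv] at this)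
      calc n * (q * k * q⁻¹) = q * ((q⁻¹ * n * q) * k) * q⁻¹ := by group
        _ = q * (k * (q⁻¹ * n * q)) * q⁻¹ := by rw [h3]
        _ = q * k * q⁻¹ * n := by group
    · intro hbot
      apply hx1
      have : (x : G) ∈ K := (hK _).2 ⟨x.2, fun n hn => (hc n hn).symm⟩
      rw [hbot, mem_bot] at this
      exact Subtype.ext this
  apply hb
  rw [eq_bot_iff]
  intro n hn
  rw [mem_bot]
  refine inf_cent_eq_bot h N (fun q hq => hNS q (hQS hq)) hd hn ?_
  exact ((hK z).1 hzK).2 n hn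

end Lg

variable {G : Type*} [Group G] {Q : Subgroup G} {z : G} {eta : G → L2}
  {pi : Subgroup.centralizer ({z} : Set G) →* Co1} (h : Chart Q z eta pi)
include h

/-- **The normal subgroups of `C(z)`.** -/
theorem normal_cent (K : Subgroup G) (hK : K ≤ centralizer ({z} : Set G))
    (hKn : ∀ c ∈ centralizer ({z} : Set G), ∀ k ∈ K, c * k * c⁻¹ ∈ K) :
    K ≤ zpowers z ∨ K = Q ∨ K = centralizer ({z} : Set G) := by
  have hL := h.large
  have hQC : Q ≤ centralizer ({z} : Set G) := fun x hx => mem_centralizer_singleton_iff.2 (hL.comm_z x hx)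
  have hs : IsSimpleGroup Co1 := Cfsg.Agent.S0399.result.1
  let U : AddSubgroup L2 :=
    { carrier := {v | ∃ x ∈ K, x ∈ Q ∧ eta x = v}
      zero_mem' := ⟨1, K.one_mem, Q.one_mem, h.eta_one⟩
      add_mem' := by
        rintro _ _ ⟨x, hx, hxQ, rfl⟩ ⟨y, hy, hyQ, rfl⟩
        exact ⟨x * y, K.mul_mem hx hy, Q.mul_mem hxQ hyQ, h.eta_mul x hxQ y hyQ⟩
      neg_mem' := by
        rintro _ ⟨x, hx, hxQ, rfl⟩
        exact ⟨x, hx, hxQ, by rw [neg_eq]⟩ }
  have hU : ∀ g : Co0, ∀ v ∈ U, g • v ∈ U := by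
    rintro g _ ⟨x, hx, hxQ, rfl⟩
    obtain ⟨c, hc⟩ := h.pi_surj (QuotientGroup.mk g)
    refine ⟨c * x * (c : G)⁻¹, hKn c c.2 x hx, hL.conj_mem c (mem_centralizer_singleton_iff.1 c.2) x hxQ, ?_⟩
    rw [h.eta_conj c x hxQ, hc, mk_smul]
  rcases irreducible U hU with hb | ht
  · left
    intro k hk
    have h1 : pi ⟨k, hK hk⟩ = 1 := by
      apply eq_of_smul
      intro v
      obtain ⟨x, hx, rfl⟩ := h.eta_surj v
      rw [← h.eta_conj ⟨k, hK hk⟩ x hx, one_smul]
      have h2 : (k * x * k⁻¹) * x⁻¹ ∈ K := by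
        have e : (k * x * k⁻¹) * x⁻¹ = k * (x * k⁻¹ * x⁻¹) := by group
        rw [e]
        exact K.mul_mem hk (hKn x (hQC hx) _ (K.inv_mem hk))
      have h3 : k * x * k⁻¹ ∈ Q := hL.conj_mem k (mem_centralizer_singleton_iff.1 (hK hk)) x hx
      have h4 : eta ((k * x * k⁻¹) * x⁻¹) ∈ U := ⟨_, h2, Q.mul_mem h3 (Q.inv_mem hx), rfl⟩
      rw [hb, AddSubgroup.mem_bot, h.eta_mul _ h3 _ (Q.inv_mem hx), h.eta_inv hx] at h4
      exact eq_of_add_eq_zero h4
    have hkQ : k ∈ Q := (h.pi_eq_one ⟨k, hK hk⟩).1 h1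
    have h5 : eta k ∈ U := ⟨k, hk, hkQ, rfl⟩
    rw [hb, AddSubgroup.mem_bot, h.eta_zero k hkQ] at h5
    rcases h5 with h5 | h5
    · rw [h5]; exact (zpowers z).one_mem
    · rw [h5]; exact mem_zpowers z
  · right
    have hz : z ∈ K := by
      by_contra hzK
      -- `Q` is commutative
      have hbf : ∀ v w : L2, bf v w = 0 := by
        intro v w
        obtain ⟨x, hx, hxQ, rfl⟩ : v ∈ U := by rw [ht]; trivial
        obtain ⟨y, hy, hyQ, rfl⟩ : w ∈ U := by rw [ht]; trivial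
        rw [← h.comm_iff hxQ hyQ]
        rcases hL.comm x hxQ y hyQ with h1 | h1
        · exact h1
        · exfalso
          apply hzK
          have e : z = (y * x)⁻¹ * (x * y) := by rw [h1]; group
          rw [e]
          exact K.mul_mem (K.inv_mem (K.mul_mem hy hx)) (K.mul_mem hx hy)
      have h2 : ∀ v : L2, v = 0 := fun v => bf_nondeg (hbf v)
      have h3 : Subsingleton L2 := ⟨fun v w => (h2 v).trans (h2 w).symm⟩
      have h4 : Nat.card L2 = 1 := Nat.card_eq_one_iff_unique.2 ⟨h3, ⟨0⟩⟩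
      rw [card_L2] at h4
      norm_num at h4
    have hQK : Q ≤ K := by
      intro x hx
      obtain ⟨y, hy, hyQ, hyx⟩ : eta x ∈ U := by rw [ht]; trivial
      rcases (h.eta_eq hx hyQ).1 hyx.symm with h1 | h1
      · rw [h1]; exact hy
      · rw [h1]; exact K.mul_mem hy hz
    let C : Subgroup G := centralizer ({z} : Set G)
    have hn : ((K.subgroupOf C).map pi).Normal := by
      refine Subgroup.Normal.map ?_ pi h.pi_surj
      exact ⟨fun k hk c => hKn c c.2 k hk⟩
    rcases hn.eq_bot_or_eq_top with h1 | h1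
    · left
      refine le_antisymm (fun k hk => ?_) hQK
      have h2 : pi ⟨k, hK hk⟩ ∈ (K.subgroupOf C).map pi := ⟨⟨k, hK hk⟩, hk, rfl⟩
      rw [h1, mem_bot] at h2
      exact (h.pi_eq_one _).1 h2
    · right
      refine le_antisymm hK (fun c hc => ?_)
      have h2 : pi ⟨c, hc⟩ ∈ (K.subgroupOf C).map pi := by rw [h1]; exact mem_top _
      obtain ⟨k, hk, hkc⟩ := h2
      have h3 := (h.pi_eq).1 hkc
      have h4 : c = (k : G) * ((k : G)⁻¹ * c) := by group
      rw [h4]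
      exact K.mul_mem hk (hQK h3)

end Cfsg.Agent.H835.Mon
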