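import Cfsg.Agent.H940.EngData
import Cfsg.Agent.H417.Quasi

/-!
# Numbers for the maximal subgroups of the Monster (helper835)
-/

set_option autoImplicit false

namespace Cfsg.Agent.H835.Mon

open Cfsg.Agent.OrdDiv Cfsg.Agent.H940.Eng Cfsg.Agent.H940.Eng.D Cfsg.Agent.H417.Quasi

/-- the order of `GL_k(q)` -/
def glp (q k : ℕ) : ℕ := ((List.range k).map fun i => q ^ k - q ^ i).prod

def chkGL : Bool := l_m.all fun x => x.1 == 2 || (List.range (x.2 + 1)).all fun k =>
  (x.1 == 3 && k == 20) || glp x.1 k % 2 ^ 46 != 0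

theorem chkGL_true : chkGL = true := by decide +kernel

theorem glp_eq (q k : ℕ) : (∏ i : Fin k, (q ^ k - q ^ (i : ℕ))) = glp q k := by
  rw [glp, Fin.prod_univ_eq_prod_range (fun i => q ^ k - q ^ i) k, Finset.prod_eq_multiset_prod]
  rfl

/-- `2 ^ 46` does not divide the order of `GL_k(q)`, `q ^ k ∣ |M|`, `q` odd, except for `q ^ k = 3 ^ 20` -/
theorem gl_num {q k : ℕ} (hq : q.Prime) (hq2 : q ≠ 2) (hk : 1 ≤ k) (hd : q ^ k ∣ n_m)
    (h : 2 ^ 46 ∣ ∏ i : Fin k, (q ^ k - q ^ (i : ℕ))) : q = 3 ∧ k = 20 := by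
  obtain ⟨e, he, hke⟩ := exists_pair v_m hq hk hd
  have h1 := chkGL_true
  unfold chkGL at h1
  rw [List.all_eq_true] at h1
  have h2 := h1 _ he
  rw [Bool.or_eq_true, beq_iff_eq, List.all_eq_true] at h2
  rcases h2 with h2 | h2
  · exact absurd h2 hq2
  · have h3 := h2 k (List.mem_range.2 (by show k < e + 1; omega))
    rw [Bool.or_eq_true, Bool.and_eq_true, beq_iff_eq, beq_iff_eq, bne_iff_ne] at h3
    rcases h3 with h3 | h3
    · exact h3
    · rw [glp_eq] at h
      exact absurd (Nat.mod_eq_zero_of_dvd h) h3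

/-- the test for `Triv` -/
def chkT (l : List (ℕ × ℕ)) (r : ℕ) : Bool := l.all fun x => x.1 == r || (List.range x.2).all fun j => x.1 ^ (j + 1) % r != 1

theorem triv_of {l : List (ℕ × ℕ)} {N r : ℕ} (hv : valid l N = true) (h : chkT l r = true) : Triv r N := by
  intro s hs hsr j hj hd
  obtain ⟨e, he, hje⟩ := exists_pair hv hs hj hd
  unfold chkT at h
  rw [List.all_eq_true] at h
  have h2 := h _ he
  rw [Bool.or_eq_true, beq_iff_eq, List.all_eq_true] at h2
  rcases h2 with h2 | h2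
  · exact absurd h2 hsr
  · have h3 := h2 (j - 1) (List.mem_range.2 (by omega))
    rw [bne_iff_ne, Nat.sub_add_cancel hj] at h3
    exact h3

def l_mb : List (ℕ × ℕ) := [(2, 5), (3, 7), (5, 3), (7, 4), (11, 1), (13, 2), (29, 1), (41, 1), (59, 1), (71, 1)]

/-- `|M| / |B|` -/
theorem triv47 : Triv 47 194478922284018372000 := triv_of (l := l_mb) (by decide +kernel) (by decide +kernel)

def l_mf : List (ℕ × ℕ) :=
  [(2, 25), (3, 4), (5, 7), (7, 3), (11, 1), (13, 2), (19, 1), (31, 1), (41, 1), (47, 1), (71, 1)]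

/-- `|M| / (59 |Fi24'|)` -/
theorem triv29 : Triv 29 10910730001832112291840000000 := triv_of (l := l_mf) (by decide +kernel) (by decide +kernel)

theorem triv71 : Triv 71 (2 ^ 15) := triv_of (l := [(2, 15)]) (by decide +kernel) (by decide +kernel)

theorem tab1 : ∀ s ∈ o_m, s % 4 ≠ 2 := by
  have h : (o_m.all fun s => s % 4 != 2) = true := by decide +kernel
  rw [List.all_eq_true] at h
  intro s hs
  simpa using h s hs

theorem tab2 : ∀ s ∈ o_m, 2 ^ 25 * 4157776806543360000 ∣ s → s = n_m := by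
  have h : (o_m.all fun s => s % (2 ^ 25 * 4157776806543360000) != 0 || s == n_m) = true := by decide +kernel
  rw [List.all_eq_true] at h
  intro s hs hd
  have h1 := h s hs
  rw [Bool.or_eq_true, bne_iff_ne, beq_iff_eq] at h1
  exact h1.resolve_left fun h2 => h2 (Nat.mod_eq_zero_of_dvd hd)

theorem tab3 : ∀ s ∈ o_m, 2 * 4154781481226426191177580544000000 ∣ s → s = n_m := by
  have h : (o_m.all fun s => s % (2 * 4154781481226426191177580544000000) != 0 || s == n_m) = true := by decide +kernel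
  rw [List.all_eq_true] at h
  intro s hs hd
  have h1 := h s hs
  rw [Bool.or_eq_true, bne_iff_ne, beq_iff_eq] at h1
  exact h1.resolve_left fun h2 => h2 (Nat.mod_eq_zero_of_dvd hd)

theorem tab4 : ∀ s ∈ o_m, 3 * 1255205709190661721292800 ∣ s → s = n_m := by
  have h : (o_m.all fun s => s % (3 * 1255205709190661721292800) != 0 || s == n_m) = true := by decide +kernel
  rw [List.all_eq_true] at h
  intro s hs hd
  have h1 := h s hs
  rw [Bool.or_eq_true, bne_iff_ne, beq_iff_eq] at h1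
  exact h1.resolve_left fun h2 => h2 (Nat.mod_eq_zero_of_dvd hd)

theorem tab5 : ∀ s ∈ o_m, 71 ∣ s → s = 178920 ∨ s = n_m := by
  have h : (o_m.all fun s => s % 71 != 0 || (s == 178920 || s == n_m)) = true := by decide +kernel
  rw [List.all_eq_true] at h
  intro s hs hd
  have h1 := h s hs
  rw [Bool.or_eq_true, Bool.or_eq_true, bne_iff_ne, beq_iff_eq, beq_iff_eq] at h1
  exact h1.resolve_left fun h2 => h2 (Nat.mod_eq_zero_of_dvd hd)

end Cfsg.Agent.H835.Mon
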