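import Cfsg.Agent.H835.Mon.Cent
import Cfsg.Agent.H835.Mon.Num
import Cfsg.Agent.Lib.MinNormalNonabelian

/-!
# The data of the Monster; overgroups of a Sylow 2-subgroup (helper835)
-/

set_option autoImplicit false

namespace Cfsg.Agent.H835.Mon

open Subgroup
open Cfsg Cfsg.Spor Cfsg.Agent.MonsterU.Lam2 Cfsg.Agent.Co2Type.Quad
open Cfsg.Agent.MonsterU.Ch (Chart)
open Cfsg.Spor (Co1)
open Cfsg.Agent.OrdDiv Cfsg.Agent.H940.Eng Cfsg.Agent.H940.Eng.D Cfsg.Agent.H417.Quasi

/-- the data of the Monster -/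
structure Dat (G : Type) [Group G] (Q : Subgroup G) (z : G) (eta : G → L2)
    (pi : Subgroup.centralizer ({z} : Set G) →* Co1) : Prop where
  fin : Finite G
  simple : IsSimpleGroup G
  card : Nat.card G = n_m
  chart : Chart Q z eta pi
  cz : Nat.card (centralizer ({z} : Set G)) = 2 ^ 25 * 4157776806543360000
  cls : ∀ v : G, orderOf v = 2 → Nat.card (centralizer ({v} : Set G)) = 2 ^ 25 * 4157776806543360000 ∨
    Nat.card (centralizer ({v} : Set G)) = 2 * 4154781481226426191177580544000000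
  three : ∃ y : G, orderOf y = 3 ∧ Nat.card (centralizer ({y} : Set G)) = 3 * 1255205709190661721292800
  rank : ∀ E : Subgroup G, (∀ a ∈ E, ∀ b ∈ E, a * b = b * a) → (∀ a ∈ E, a ^ 2 = 1) → Nat.card E ≤ 2 ^ 15
  ords : Ords.{0} n_m o_m

variable {G : Type} [Group G] {Q : Subgroup G} {z : G} {eta : G → L2}
  {pi : Subgroup.centralizer ({z} : Set G) →* Co1} (d : Dat G Q z eta pi)
include d

theorem Dat.orderOf_z : orderOf z = 2 := by
  have : Fact (Nat.Prime 2) := ⟨Nat.prime_two⟩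
  exact orderOf_eq_prime (by rw [pow_two, d.chart.large.z_sq]) d.chart.large.z_ne

theorem Dat.Q_le : Q ≤ centralizer ({z} : Set G) := fun x hx =>
  mem_centralizer_singleton_iff.2 (d.chart.large.comm_z x hx)

/-- a Sylow 2-subgroup -/
structure SS (Q : Subgroup G) (z : G) (S : Subgroup G) : Prop where
  card : Nat.card S = 2 ^ 46
  ge : Q ≤ S
  le : S ≤ centralizer ({z} : Set G)

theorem Dat.exists_SS : ∃ S : Subgroup G, SS Q z S := by
  have := d.fin
  have : Fact (Nat.Prime 2) := ⟨Nat.prime_two⟩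
  have hQ : IsPGroup 2 Q := IsPGroup.of_card d.chart.card_Q
  have hQ' : IsPGroup 2 (Q.subgroupOf (centralizer ({z} : Set G))) :=
    hQ.of_equiv (subgroupOfEquivOfLe d.Q_le).symm
  obtain ⟨P, hP⟩ := hQ'.exists_le_sylow
  refine ⟨(P : Subgroup _).map (centralizer ({z} : Set G)).subtype, ?_, ?_, map_subtype_le _⟩
  · rw [card_map_sub]
    have h1 := P.card_eq_multiplicity
    rw [d.cz] at h1
    have h2 : (2 ^ 25 * 4157776806543360000 : ℕ) = 2 ^ 46 * 1982582476875 := by norm_num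
    have h3 : (2 ^ 25 * 4157776806543360000 : ℕ).factorization 2 = 46 := by
      rw [h2, Nat.factorization_mul (by norm_num) (by norm_num), Finsupp.add_apply, Nat.factorization_pow,
        Finsupp.smul_apply, Nat.prime_two.factorization_self, Nat.factorization_eq_zero_of_not_dvd (by norm_num)]
      rfl
    rw [h3] at h1
    exact h1
  · intro x hx
    exact ⟨⟨x, d.Q_le hx⟩, hP hx, rfl⟩

omit d in
theorem pow_le {a : ℕ} (h : 2 ^ a ∣ n_m) : a ≤ 46 := by
  by_contra hlt
  have h1 : 2 ^ 47 ∣ n_m := (pow_dvd_pow 2 (by omega)).trans h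
  exact absurd (Nat.mod_eq_zero_of_dvd h1) (by decide +kernel)

/-- a normal 2-subgroup of an overgroup of `S` is in `S` -/
theorem Dat.two_le {S : Subgroup G} (hS : SS Q z S) {H : Subgroup G} (hSH : S ≤ H) (N : Subgroup H) [N.Normal]
    (hN : IsPGroup 2 N) : N.map H.subtype ≤ S := by
  have := d.fin
  have : Fact (Nat.Prime 2) := ⟨Nat.prime_two⟩
  have hSp : IsPGroup 2 (S.subgroupOf H) := (IsPGroup.of_card hS.card).of_equiv (subgroupOfEquivOfLe hSH).symm
  have h1 : IsPGroup 2 ↥(N ⊔ S.subgroupOf H) := hN.to_sup_of_normal_left hSp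
  obtain ⟨a, ha⟩ := IsPGroup.iff_card.1 h1
  have h2 : a ≤ 46 := pow_le (by
    rw [← ha, ← d.card]
    exact (card_subgroup_dvd_card _).trans (card_subgroup_dvd_card H))
  have hSc : Nat.card (S.subgroupOf H) = 2 ^ 46 := by
    rw [Nat.card_congr (subgroupOfEquivOfLe hSH).toEquiv, hS.card]
  have h3 : S.subgroupOf H = N ⊔ S.subgroupOf H := by
    apply eq_of_le_of_card_ge le_sup_right
    rw [ha, hSc]
    exact Nat.pow_le_pow_right (by norm_num) h2
  rintro _ ⟨n, hn, rfl⟩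
  have h4 : n ∈ S.subgroupOf H := by
    rw [h3]
    exact mem_sup_left hn
  exact h4

theorem Dat.not_dvd_Q {N : Subgroup G} (hN : ¬ 2 ∣ Nat.card N) {n : G} (hn : n ∈ N) (hnQ : n ∈ Q) : n = 1 := by
  have h1 : orderOf n ∣ 2 ^ 25 := by
    rw [← d.chart.card_Q]
    exact Q.orderOf_dvd_natCard hnQ
  have h2 : orderOf n ∣ Nat.card N := N.orderOf_dvd_natCard hn
  obtain ⟨k, -, hk⟩ := (Nat.dvd_prime_pow Nat.prime_two).1 h1
  rcases Nat.eq_zero_or_pos k with h3 | h3
  · rw [h3, pow_zero] at hk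
    exact orderOf_eq_one_iff.1 hk
  · exfalso
    apply hN
    rw [hk] at h2
    exact (dvd_pow_self 2 h3.ne').trans h2

/-- **an overgroup of a Sylow 2-subgroup has no nontrivial normal subgroup of odd order** -/
theorem Dat.odd_eq_bot {S : Subgroup G} (hS : SS Q z S) {H : Subgroup G} (hSH : S ≤ H) (N : Subgroup H) (hN : N.Normal)
    (h2 : ¬ 2 ∣ Nat.card N) : N = ⊥ := by
  have := d.fin
  by_contra hb
  obtain ⟨T, ⟨hTn, hTb, hTN⟩, hTmin⟩ := exists_card_min (P := fun T : Subgroup H => T.Normal ∧ T ≠ ⊥ ∧ T ≤ N)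
    ⟨N, hN, hb, le_rfl⟩
  have hT2 : ¬ 2 ∣ Nat.card T := fun h => h2 (h.trans (card_dvd_of_le hTN))
  have hT2' : ¬ 2 ∣ Nat.card ↥(T.map H.subtype) := by rw [card_map_sub]; exact hT2
  have hd : ∀ n ∈ T.map H.subtype, n ∈ Q → n = 1 := fun n hn hnQ => d.not_dvd_Q hT2' hn hnQ
  have hTS : ∀ x ∈ S, ∀ n ∈ T.map H.subtype, x * n * x⁻¹ ∈ T.map H.subtype := fun x hx n hn =>
    map_conj_mem hTn (hSH hx) hn
  have hab : ∀ x ∈ T, ∀ y ∈ T, Commute x y := by
    intro x hx y hy
    have h3 := comm_of_disjoint d.chart.large (T.map H.subtype) (fun q hq => hTS q (hS.ge hq)) hd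
      (mem_map_of_mem H.subtype hx) (mem_map_of_mem H.subtype hy)
    exact Subtype.ext h3
  obtain ⟨p, hp, hpT, hpow⟩ := Cfsg.Agent.Lib.MinNormalNonabelian.abelian_structure T hTb (fun M hM hMT => by
    by_cases hMb : M = ⊥
    · exact Or.inl hMb
    · exact Or.inr (eq_of_le_of_card_ge hMT (hTmin M ⟨hM, hMb, hMT.trans hTN⟩))) hab
  have hpf : Fact p.Prime := ⟨hp⟩
  obtain ⟨k, hk⟩ := IsPGroup.iff_card.1 hpT
  have hk1 : 1 ≤ k := by
    by_contra hk0
    have : k = 0 := by omega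
    rw [this, pow_zero] at hk
    exact hTb (card_eq_one.1 hk)
  have hp2 : p ≠ 2 := by
    rintro rfl
    apply hT2
    rw [hk]
    exact dvd_pow_self 2 (by omega)
  set T' : Subgroup G := T.map H.subtype with hT'
  have hT'c : Nat.card T' = p ^ k := by rw [hT', card_map_sub, hk]
  have hdv := card_dvd_mulAut d.chart.large S T' hS.ge hS.le hTS hd (by
    intro h3
    exact hTb ((map_eq_bot_iff_of_injective T H.subtype_injective).1 h3))
  let _ : CommGroup T' := { (inferInstance : Group T') with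
    mul_comm := by
      rintro ⟨_, x, hx, rfl⟩ ⟨_, y, hy, rfl⟩
      exact Subtype.ext (congrArg H.subtype (hab x hx y hy).eq) }
  obtain ⟨e⟩ := Cfsg.Agent.Lib.ElemAbGL.mulAut_equiv_GL (V := T') p k (by
    rintro ⟨_, x, hx, rfl⟩
    exact Subtype.ext (congrArg H.subtype (hpow x hx))) hT'c
  have h4 : 2 ^ 46 ∣ ∏ i : Fin k, (p ^ k - p ^ (i : ℕ)) := by
    rw [hS.card, Nat.card_congr e.toEquiv, Matrix.card_GL_field, ZMod.card] at hdv
    exact hdv
  have h5 : p ^ k ∣ n_m := by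
    rw [← hT'c, ← d.card]
    exact card_subgroup_dvd_card _
  obtain ⟨rfl, rfl⟩ := gl_num hp hp2 hk1 h5 h4
  -- `T'` is a Sylow 3-subgroup
  obtain ⟨y, hy, hyc⟩ := d.three
  have hT'p : IsPGroup 3 T' := IsPGroup.of_card hT'c
  have hidx : ¬ 3 ∣ T'.index := by
    intro h6
    have h7 : 3 ^ 21 ∣ n_m := by
      rw [← d.card, ← card_mul_index T', hT'c, pow_succ]
      exact Nat.mul_dvd_mul_left _ h6
    exact absurd (Nat.mod_eq_zero_of_dvd h7) (by decide +kernel)
  have hyp : IsPGroup 3 (zpowers y) := IsPGroup.of_card (n := 1) (by rw [Nat.card_zpowers, hy, pow_one])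
  obtain ⟨R, hR⟩ := hyp.exists_le_sylow
  obtain ⟨g, hg⟩ := MulAction.exists_smul_eq G R (hT'p.toSylow hidx)
  have hgy : g * y * g⁻¹ ∈ T' := by
    have h6 : g * y * g⁻¹ ∈ ((g • R : Sylow 3 G) : Subgroup G) := by
      rw [Sylow.coe_subgroup_smul]
      exact ⟨y, hR (mem_zpowers y), by simp [MulAut.smul_def, MulAut.conj_apply]⟩
    rw [hg] at h6
    exact h6
  have h6 : T' ≤ centralizer ({g * y * g⁻¹} : Set G) := by
    intro t ht
    rw [mem_centralizer_singleton_iff]
    exact congrArg Subtype.val (mul_comm (⟨t, ht⟩ : T') ⟨_, hgy⟩)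
  have h7 : Nat.card (centralizer ({g * y * g⁻¹} : Set G)) = Nat.card (centralizer ({y} : Set G)) := by
    have e1 : centralizer ({g * y * g⁻¹} : Set G) =
        (centralizer ({y} : Set G)).map (MulAut.conj g).toMonoidHom := by
      ext x
      rw [Cfsg.Agent.H940.MaxCls.mem_map_conj, mem_centralizer_singleton_iff, mem_centralizer_singleton_iff]
      constructor
      · intro h
        calc g⁻¹ * x * g * y = g⁻¹ * (x * (g * y * g⁻¹)) * g := by group
          _ = g⁻¹ * (g * y * g⁻¹ * x) * g := by rw [h]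
          _ = y * (g⁻¹ * x * g) := by group
      · intro h
        calc x * (g * y * g⁻¹) = g * (g⁻¹ * x * g * y) * g⁻¹ := by group
          _ = g * (y * (g⁻¹ * x * g)) * g⁻¹ := by rw [h]
          _ = g * y * g⁻¹ * x := by group
    rw [e1, Cfsg.Agent.H940.MaxCls.card_map_conj]
  have h8 := card_dvd_of_le h6
  rw [hT'c, h7, hyc] at h8
  exact absurd (Nat.mod_eq_zero_of_dvd h8) (by decide +kernel)

end Cfsg.Agent.H835.Mon
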