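import Cfsg.Agent.H835.Mon.Two

/-!
# Five pairwise apart subgroups of the Monster, abstractly (helper835)
-/

set_option autoImplicit false

namespace Cfsg.Agent.H835.Mon

open Subgroup
open Cfsg Cfsg.Spor Cfsg.Agent.MonsterU.Lam2 Cfsg.Agent.Co2Type.Quad
open Cfsg.Agent.MonsterU.Ch (Chart)
open Cfsg.Spor (Co1)
open Cfsg.Agent.OrdDiv Cfsg.Agent.H940.Eng Cfsg.Agent.H940.Eng.D Cfsg.Agent.H417.Quasi Cfsg.Agent.H940.MaxCls

/-- a maximal subgroup is apart from each subgroup whose order does not divide its order -/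
theorem apart_of_not_dvd {G : Type*} [Group G] [Finite G] {A B : Subgroup G} (hA : IsCoatom A)
    (h : ¬ Nat.card B ∣ Nat.card A) : Apart A B := by
  refine apart_of_coatom hA fun g => ?_
  by_contra hcon
  push Not at hcon
  apply h
  rw [← card_map_conj g B]
  exact card_dvd_of_le (map_conj_le hcon)

variable {G : Type} [Group G] {Q : Subgroup G} {z : G} {eta : G → L2}
  {pi : Subgroup.centralizer ({z} : Set G) →* Co1} (d : Dat G Q z eta pi)
include d

/-- **five pairwise apart subgroups** -/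
theorem Dat.five {t : G} (ht : orderOf t = 2) (hB : IsSimpleGroup Spor.BabyMonster)
    (hcov : IsNonsplitDoubleCover (centralizer ({t} : Set G)) Spor.BabyMonster)
    (hcard : Nat.card (centralizer ({t} : Set G)) = 2 * 4154781481226426191177580544000000)
    {F : Type*} [Group F] {y s : G} {ρ : centralizer ({y} : Set G) →* ↥(_root_.commutator F)}
    (E : H849.ThreeNorm.Data y s ρ) (hF : IsSimpleGroup ↥(_root_.commutator F))
    (hFc : Nat.card ↥(_root_.commutator F) = 1255205709190661721292800)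
    (A : Subgroup G) (hA2 : 2 ^ 46 ∣ Nat.card A) (hA31 : 31 ∣ Nat.card A) (hA : A ≠ ⊤) : Sep 5 G := by
  have := d.fin
  have hf71 : Fact (Nat.Prime 71) := ⟨by norm_num⟩
  have hz := d.coatom_z
  have ht' := d.coatom_t ht hB hcov hcard
  obtain ⟨hy, hyc⟩ := d.coatom_y E hF hFc
  obtain ⟨x, hx⟩ := exists_prime_orderOf_dvd_card' (G := G) 71 (by rw [d.card]; decide +kernel)
  have hxc : Nat.card (zpowers x) = 71 := by rw [Nat.card_zpowers, hx]
  have hxt : zpowers x ≠ ⊤ := by
    intro h
    rw [h, card_top, d.card] at hxc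
    revert hxc
    decide +kernel
  refine sep_five hz.1 ht'.1 hy.1 hA hxt (apart_of_coatoms hz ht' ?_) (apart_of_coatoms hz hy ?_)
    (apart_of_not_dvd hz ?_) (apart_of_not_dvd hz ?_) (apart_of_coatoms ht' hy ?_) (apart_of_not_dvd ht' ?_)
    (apart_of_not_dvd ht' ?_) (apart_of_not_dvd hy ?_) (apart_of_not_dvd hy ?_)
    (apart_of_card fun K h1 h2 => d.top_of_71 (hA2.trans h1) (hxc ▸ h2))
  · rw [d.cz, hcard]; norm_num
  · rw [d.cz, hyc]; norm_num
  · intro h
    rw [d.cz] at h
    exact absurd (Nat.mod_eq_zero_of_dvd (hA31.trans h)) (by norm_num)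
  · intro h
    rw [d.cz, hxc] at h
    exact absurd (Nat.mod_eq_zero_of_dvd h) (by norm_num)
  · rw [hcard, hyc]; norm_num
  · intro h
    rw [hcard] at h
    exact absurd (Nat.mod_eq_zero_of_dvd (hA2.trans h)) (by norm_num)
  · intro h
    rw [hcard, hxc] at h
    exact absurd (Nat.mod_eq_zero_of_dvd h) (by norm_num)
  · intro h
    rw [hyc] at h
    exact absurd (Nat.mod_eq_zero_of_dvd (hA2.trans h)) (by norm_num)
  · intro h
    rw [hyc, hxc] at h
    exact absurd (Nat.mod_eq_zero_of_dvd h) (by norm_num)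

end Cfsg.Agent.H835.Mon
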