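import Mathlib
import Cfsg.Agent.H417.Quasi
import Cfsg.Agent.Lib.MinNormal
import Cfsg.Agent.Lib.ElemAbGL
import Cfsg.Agent.H940.Struct
import Cfsg.Agent.H940.MaxCls

/-!
# General lemmas for the maximal subgroups of the Monster (helper835)

* `centralizes_normal'` : a Sylow `p`-subgroup centralises a normal `p'`-subgroup `M` if `Triv p |M|`;
* `quasi` : overgroups of `C(y)` when `C(y)/⟨y⟩` is simple;
* `simple_of_mem` : a minimal normal subgroup all of whose normal subgroups of order divisible by `p` contain one and the same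
  element is simple;
* `exists_inv` : an involution in the centralizer of an element of prime order, from the order of the normalizer.
-/

set_option autoImplicit false

namespace Cfsg.Agent.H835.Mon

open Subgroup Cfsg.Agent.H417.Quasi

universe u

variable {G : Type u} [Group G]

/-- a Sylow `p`-subgroup centralises every normal `p'`-subgroup on whose order `p` acts trivially -/
theorem centralizes_normal' [Finite G] {p : ℕ} [hp : Fact p.Prime] (P : Sylow p G) (M : Subgroup G) [M.Normal]
    (hM : ¬ p ∣ Nat.card M) (hT : Triv p (Nat.card M)) : M ≤ centralizer (P : Set G) := by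
  let C : Subgroup M := (centralizer (P : Set G)).subgroupOf M
  have hC : C = ⊤ := by
    rw [← Subgroup.index_eq_one]
    by_contra hne
    obtain ⟨r, hr, hrd⟩ := Nat.exists_prime_and_dvd hne
    have : Fact r.Prime := ⟨hr⟩
    have hrp : r ≠ p := by
      rintro rfl
      exact hM (hrd.trans (Subgroup.index_dvd_card C))
    obtain ⟨R, hR⟩ := exists_normalized P M hM r
    have hRc : Nat.card ((R : Subgroup M).map M.subtype : Subgroup G) = r ^ (Nat.card M).factorization r := by
      rw [← R.card_eq_multiplicity]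
      exact Nat.card_congr ((R : Subgroup M).equivMapOfInjective M.subtype M.subtype_injective).toEquiv.symm
    have h1 := centralizes_of_normalizes (P : Subgroup G) _ P.isPGroup' hr hrp hRc (hT.of_dvd (Nat.ordProj_dvd _ _)) hR
    have h2 : (R : Subgroup M) ≤ C := by
      intro x hx
      exact h1 ⟨x, hx, rfl⟩
    have h3 : ¬ r ∣ (R : Subgroup M).index := R.not_dvd_index
    exact h3 (hrd.trans (Subgroup.index_dvd_of_le h2))
  intro y hy
  have : (⟨y, hy⟩ : M) ∈ C := by rw [hC]; exact mem_top _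
  exact this

/-- a subgroup of prime order `r` as a Sylow subgroup -/
theorem exists_sylow_eq [Finite G] {r : ℕ} [hr : Fact r.Prime] (h2 : ¬ r ^ 2 ∣ Nat.card G) {x : G} (hx : orderOf x = r) :
    ∃ P : Sylow r G, (P : Subgroup G) = zpowers x := by
  have hP : IsPGroup r (zpowers x) := IsPGroup.of_card (n := 1) (by rw [Nat.card_zpowers, hx, pow_one])
  have hi : ¬ r ∣ (zpowers x).index := by
    intro h
    apply h2
    rw [← card_mul_index (zpowers x), Nat.card_zpowers, hx, pow_two]
    exact Nat.mul_dvd_mul_left r h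
  exact ⟨hP.toSylow hi, rfl⟩

/-- the order of `H` as a type and as a subgroup of `H`: the image of a subgroup -/
theorem card_map_sub {H : Subgroup G} (N : Subgroup H) : Nat.card ↥(N.map H.subtype) = Nat.card N :=
  card_map_of_injective H.subtype_injective

theorem map_conj_mem {H : Subgroup G} {N : Subgroup H} (hN : N.Normal) {h : G} (hh : h ∈ H) {x : G}
    (hx : x ∈ N.map H.subtype) : h * x * h⁻¹ ∈ N.map H.subtype := by
  obtain ⟨n, hn, rfl⟩ := hx
  exact ⟨⟨h, hh⟩ * n * ⟨h, hh⟩⁻¹, hN.conj_mem n hn _, rfl⟩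

/-- **Overgroups of `C(y)`.** `D = C(y)`, the normal subgroups of `D` are in `⟨y⟩` or equal to `D`; `r` is a prime with `r ∥ |G|`,
`r ∣ |D|`. If `H ≥ D` does not normalise `⟨y⟩`, then `D` is in a simple normal subgroup of `H`. -/
theorem quasi [Finite G] (y : G) {q r : ℕ} (hq : q.Prime) (hr : r.Prime) (hy : orderOf y = q) (hrq : r ≠ q)
    (hD : ∀ K : Subgroup G, K ≤ centralizer ({y} : Set G) →
      (∀ d ∈ centralizer ({y} : Set G), ∀ k ∈ K, d * k * d⁻¹ ∈ K) → K ≤ zpowers y ∨ K = centralizer ({y} : Set G))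
    (hna : ¬ ∀ a ∈ centralizer ({y} : Set G), ∀ b ∈ centralizer ({y} : Set G), a * b = b * a)
    (hrD : r ∣ Nat.card (centralizer ({y} : Set G))) (hr2 : ¬ r ^ 2 ∣ Nat.card G)
    (H : Subgroup G) (hDH : centralizer ({y} : Set G) ≤ H) (hHn : ∃ h ∈ H, h * y * h⁻¹ ∉ zpowers y)
    (hT : ∀ N : Subgroup H, N.Normal → ¬ r ∣ Nat.card N → N.map H.subtype ⊓ centralizer ({y} : Set G) ≤ zpowers y →
      Triv r (Nat.card N)) :
    ∃ M : Subgroup H, M.Normal ∧ IsSimpleGroup M ∧ centralizer ({y} : Set G) ≤ M.map H.subtype := by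
  have := Fact.mk hr
  have := Fact.mk hq
  set D := centralizer ({y} : Set G) with hDd
  have hrH : r ∣ Nat.card H := hrD.trans (card_dvd_of_le hDH)
  have hr2H : ¬ r ^ 2 ∣ Nat.card H := fun h => hr2 (h.trans (card_subgroup_dvd_card H))
  obtain ⟨x₀, hx₀⟩ := exists_prime_orderOf_dvd_card' (G := D) r hrD
  obtain ⟨x, hxD⟩ := x₀
  have hxo : orderOf x = r := by rw [← hx₀, Subgroup.orderOf_mk]
  set x' : H := ⟨x, hDH hxD⟩ with hx'
  have hx'o : orderOf x' = r := by rw [← hxo, hx']; exact Subgroup.orderOf_mk x _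
  obtain ⟨P, hP⟩ := exists_sylow_eq hr2H hx'o
  have hxy : x ∉ zpowers y := by
    intro h
    have h1 : orderOf x ∣ q := by
      rw [← hy, ← Nat.card_zpowers y]
      exact Subgroup.orderOf_dvd_natCard _ h
    rw [hxo] at h1
    exact hrq ((Nat.prime_dvd_prime_iff_eq hr hq).1 h1)
  have hcomm : ∀ a ∈ D, a * y = y * a := fun a ha => mem_centralizer_singleton_iff.1 ha
  have hyD : y ∈ D := mem_centralizer_singleton_iff.2 rfl
  -- the centralizer of `D`
  have hCD : ∀ c : G, (∀ d ∈ D, d * c = c * d) → c ∈ zpowers y := by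
    intro c hc
    have hcD : c ∈ D := mem_centralizer_singleton_iff.2 (hc y hyD).symm
    let K : Subgroup G := centralizer (D : Set G) ⊓ D
    have hK : ∀ k, k ∈ K ↔ (∀ d ∈ D, d * k = k * d) ∧ k ∈ D := fun k => by
      rw [mem_inf, mem_centralizer_iff]
      rfl
    rcases hD K inf_le_right (fun d hd k hk => by
      rw [hK] at hk ⊢
      have e1 : d * k * d⁻¹ = k := by rw [hk.1 d hd]; group
      rw [e1]
      exact hk) with h | h
    · exact h ((hK c).2 ⟨hc, hcD⟩)
    · exfalso
      apply hna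
      intro a ha b hb
      rw [← h] at hb
      exact ((hK b).1 hb).1 a ha
  have hno : ∀ N : Subgroup H, N.Normal → ¬ r ∣ Nat.card N → N = ⊥ := by
    intro N hN hrN
    have hND : N.map H.subtype ⊓ D ≤ zpowers y := by
      rcases hD (N.map H.subtype ⊓ D) inf_le_right (fun d hd k hk => by
        rw [mem_inf] at hk ⊢
        exact ⟨map_conj_mem hN (hDH hd) hk.1, D.mul_mem (D.mul_mem hd hk.2) (D.inv_mem hd)⟩) with h | h
      · exact h
      · exfalso
        apply hrN
        rw [← card_map_sub]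
        exact hrD.trans (card_dvd_of_le (inf_eq_right.1 h))
    have h1 := centralizes_normal' P N hrN (hT N hN hrN hND)
    -- the centralizer of `N` in `D`
    let K : Subgroup G := centralizer ((N.map H.subtype : Subgroup G) : Set G) ⊓ D
    have hK : ∀ k, k ∈ K ↔ (∀ n ∈ N.map H.subtype, n * k = k * n) ∧ k ∈ D := fun k => by
      rw [mem_inf, mem_centralizer_iff]
      rfl
    have hxK : x ∈ K := by
      rw [hK]
      refine ⟨?_, hxD⟩
      rintro _ ⟨n, hn, rfl⟩
      have h2 := mem_centralizer_iff.1 (h1 hn) x' (by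
        show x' ∈ (P : Subgroup H)
        rw [hP]
        exact mem_zpowers x')
      exact (congrArg Subtype.val h2).symm
    have hKD : K = D := by
      rcases hD K inf_le_right (fun d hd k hk => by
        rw [hK] at hk ⊢
        refine ⟨fun n hn => ?_, D.mul_mem (D.mul_mem hd hk.2) (D.inv_mem hd)⟩
        have h3 := hk.1 (d⁻¹ * n * d) (by
          have := map_conj_mem hN (H.inv_mem (hDH hd)) hn
          rwa [inv_inv] at this)
        calc n * (d * k * d⁻¹) = d * ((d⁻¹ * n * d) * k) * d⁻¹ := by group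
          _ = d * (k * (d⁻¹ * n * d)) * d⁻¹ := by rw [h3]
          _ = d * k * d⁻¹ * n := by group) with h | h
      · exact absurd (h hxK) hxy
      · exact h
    have hNy : N.map H.subtype ≤ zpowers y := by
      intro n hn
      refine hCD n fun d hd => ?_
      rw [← hKD] at hd
      exact (((hK d).1 hd).1 n hn).symm
    -- so `N = ⊥`
    have h3 : Nat.card ↥(N.map H.subtype) ∣ q := by
      rw [← hy, ← Nat.card_zpowers y]
      exact card_dvd_of_le hNy
    rcases (Nat.dvd_prime hq).1 h3 with h4 | h4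
    · exact (map_eq_bot_iff_of_injective N H.subtype_injective).1 (card_eq_one.1 h4)
    · exfalso
      have h5 : N.map H.subtype = zpowers y := by
        apply eq_of_le_of_card_ge hNy
        rw [h4, Nat.card_zpowers, hy]
      obtain ⟨h, hh, hhy⟩ := hHn
      apply hhy
      rw [← h5]
      refine map_conj_mem hN hh ?_
      rw [h5]
      exact mem_zpowers y
  obtain ⟨M, hM, hMs, hrM⟩ := Cfsg.Agent.H940.Eng.exists_simple_normal hr hrH hr2H hno
  refine ⟨M, hM, hMs, ?_⟩
  have hPM : (P : Subgroup H) ≤ M := by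
    refine le_of_dvd P ?_ M hrM
    rw [show Nat.card P = Nat.card ↥(P : Subgroup H) from rfl, hP, Nat.card_zpowers, hx'o]
  have hxM : x ∈ M.map H.subtype := ⟨x', hPM (by rw [hP]; exact mem_zpowers x'), rfl⟩
  rcases hD (M.map H.subtype ⊓ D) inf_le_right (fun d hd k hk => by
    rw [mem_inf] at hk ⊢
    exact ⟨map_conj_mem hM (hDH hd) hk.1, D.mul_mem (D.mul_mem hd hk.2) (D.inv_mem hd)⟩) with h | h
  · exact absurd (h ⟨hxM, hxD⟩) hxy
  · exact inf_eq_right.1 h

/-- a minimal normal subgroup all of whose normal subgroups of order divisible by `p` contain `z` is simple -/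
theorem simple_of_mem {Y : Type u} [Group Y] [Finite Y] {p : ℕ} (hp : p.Prime) (M : Subgroup Y) [hMn : M.Normal] (hMb : M ≠ ⊥)
    (hmin : ∀ T : Subgroup Y, T.Normal → T ≤ M → T = ⊥ ∨ T = M) (hpM : p ∣ Nat.card M) (z : Y) (hz1 : z ≠ 1)
    (hz : ∀ T : Subgroup M, T.Normal → p ∣ Nat.card T → z ∈ T.map M.subtype) : IsSimpleGroup M := by
  have hMnt : Nontrivial M := (Subgroup.nontrivial_iff_ne_bot M).2 hMb
  -- all nontrivial normal subgroups of `M` have order divisible by `p`
  have hdiv : ∀ T : Subgroup M, T.Normal → T ≠ ⊥ → p ∣ Nat.card T := by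
    intro T0 hT0 hT0b
    by_contra hrT0
    obtain ⟨P, ⟨hPn, hrP⟩, hPmax⟩ := Cfsg.Agent.H940.Eng.exists_card_max
      (P := fun T : Subgroup M => T.Normal ∧ ¬ p ∣ Nat.card T) ⟨T0, hT0, hrT0⟩
    have hPle : ∀ Q : Subgroup M, Q.Normal → ¬ p ∣ Nat.card Q → Q ≤ P := by
      intro Q hQ hrQ
      have h3 := hPmax (P ⊔ Q) ⟨inferInstance, Cfsg.Agent.H940.Eng.not_dvd_card_sup hp P Q hrP hrQ⟩
      have h4 : P = P ⊔ Q := eq_of_le_of_card_ge le_sup_left h3
      rw [h4]
      exact le_sup_right
    have hPmn : (P.map M.subtype).Normal := by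
      refine ⟨fun a ha y => ?_⟩
      have hsu : Function.Surjective (MulAut.conjNormal y : MulAut M).toMonoidHom :=
        (MulAut.conjNormal y : MulAut M).surjective
      have h3 : P.map (MulAut.conjNormal y : MulAut M).toMonoidHom ≤ P := by
        refine hPle _ (hPn.map _ hsu) ?_
        rw [Cfsg.Agent.H940.Eng.card_map_equiv _ P]
        exact hrP
      have h4 : (P.map M.subtype).map (MulAut.conj y).toMonoidHom ≤ P.map M.subtype := by
        rw [← Cfsg.Agent.H940.Eng.map_conjNormal]
        exact map_mono h3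
      exact h4 ⟨a, ha, rfl⟩
    rcases hmin _ hPmn (map_subtype_le P) with hb | hb
    · have hPb : P = ⊥ := (map_eq_bot_iff_of_injective P M.subtype_injective).1 hb
      exact hT0b (le_bot_iff.1 (hPb ▸ hPle T0 hT0 hrT0))
    · apply hrP
      rw [← card_map_of_injective (K := P) M.subtype_injective, hb]
      exact hpM
  by_contra hns
  have hex : ∃ T : Subgroup M, T.Normal ∧ T ≠ ⊥ ∧ T ≠ ⊤ := by
    by_contra hall
    push Not at hall
    exact hns ⟨fun N hN => or_iff_not_imp_left.2 fun hb => hall N hN hb⟩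
  obtain ⟨T, ⟨hTn, hTb, hTt⟩, hTmin⟩ := Cfsg.Agent.H940.Eng.exists_card_min
    (P := fun T : Subgroup M => T.Normal ∧ T ≠ ⊥ ∧ T ≠ ⊤) hex
  -- `T` is not normal in `Y`
  have hTnn : ¬ (T.map M.subtype).Normal := by
    intro h
    rcases hmin _ h (map_subtype_le T) with h3 | h3
    · exact hTb ((map_eq_bot_iff_of_injective T M.subtype_injective).1 h3)
    · apply hTt
      apply map_injective M.subtype_injective
      rw [h3, ← MonoidHom.range_eq_map, range_subtype]
  have hy : ∃ y : Y, T.map (MulAut.conjNormal y : MulAut M).toMonoidHom ≠ T := by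
    by_contra hall
    push Not at hall
    apply hTnn
    refine ⟨fun a ha y => ?_⟩
    have h4 : (T.map M.subtype).map (MulAut.conj y).toMonoidHom ≤ T.map M.subtype := by
      rw [← Cfsg.Agent.H940.Eng.map_conjNormal, hall y]
    exact h4 ⟨a, ha, rfl⟩
  obtain ⟨y, hy⟩ := hy
  set T' := T.map (MulAut.conjNormal y : MulAut M).toMonoidHom with hT'
  have hT'c : Nat.card T' = Nat.card T := Cfsg.Agent.H940.Eng.card_map_equiv _ T
  have hT'n : T'.Normal := hTn.map _ (MulAut.conjNormal y : MulAut M).surjective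
  have hzT := hz T hTn (hdiv T hTn hTb)
  have hzT' := hz T' hT'n (by rw [hT'c]; exact hdiv T hTn hTb)
  have hinf : T ⊓ T' ≠ ⊥ := by
    intro hinf
    obtain ⟨a, ha, haz⟩ := hzT
    obtain ⟨b, hb, hbz⟩ := hzT'
    have hab : a = b := M.subtype_injective (haz.trans hbz.symm)
    have : a ∈ T ⊓ T' := ⟨ha, hab ▸ hb⟩
    rw [hinf, mem_bot] at this
    rw [this] at haz
    exact hz1 haz.symm
  have h3 := hTmin (T ⊓ T') ⟨inferInstance, hinf, fun h => hTt (top_le_iff.1 (h ▸ inf_le_left))⟩
  have h4 : T ⊓ T' = T := eq_of_le_of_card_ge inf_le_left h3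
  have h5 : T ≤ T' := inf_eq_left.1 h4
  exact hy (eq_of_le_of_card_ge h5 hT'c.le).symm

/-- a 2-subgroup of order greater than `r` normalising a subgroup of order `r` contains an involution centralising it -/
theorem exists_inv [Finite G] {r : ℕ} {x : G} (hx : orderOf x = r) (T : Subgroup G) (hT : IsPGroup 2 T)
    (hTc : r < Nat.card T) (hTn : ∀ t ∈ T, t * x * t⁻¹ ∈ zpowers x) : ∃ v ∈ T, orderOf v = 2 ∧ v * x = x * v := by
  classical
  -- the map `t ↦ t x t⁻¹`
  have : ∃ a b : T, a ≠ b ∧ (a : G) * x * (a : G)⁻¹ = b * x * (b : G)⁻¹ := by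
    by_contra hcon
    push Not at hcon
    have hinj : Function.Injective (fun t : T => (⟨(t : G) * x * (t : G)⁻¹, hTn t t.2⟩ : zpowers x)) := by
      intro a b hab
      by_contra hne
      exact hcon a b hne (congrArg Subtype.val hab)
    have h1 := Nat.card_le_card_of_injective _ hinj
    rw [Nat.card_zpowers, hx] at h1
    omega
  obtain ⟨a, b, hab, h⟩ := this
  set c : T := b⁻¹ * a with hc
  have hc1 : c ≠ 1 := by
    intro h1
    apply hab
    rw [hc, inv_mul_eq_one] at h1
    exact h1.symm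
  have hcx : (c : G) * x = x * c := by
    rw [hc]
    push_cast
    calc (b : G)⁻¹ * a * x = (b : G)⁻¹ * ((a : G) * x * (a : G)⁻¹) * a := by group
      _ = (b : G)⁻¹ * ((b : G) * x * (b : G)⁻¹) * a := by rw [h]
      _ = x * ((b : G)⁻¹ * a) := by group
  obtain ⟨k, hk⟩ := (IsPGroup.iff_orderOf.1 hT) c
  have hk0 : k ≠ 0 := by
    rintro rfl
    rw [pow_zero, orderOf_eq_one_iff] at hk
    exact hc1 hk
  obtain ⟨k, rfl⟩ := Nat.exists_eq_succ_of_ne_zero hk0
  refine ⟨((c ^ 2 ^ k : T) : G), (c ^ 2 ^ k).2, ?_, ?_⟩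
  · rw [Subgroup.orderOf_coe, orderOf_pow, hk]
    have h1 : Nat.gcd (2 ^ (k + 1)) (2 ^ k) = 2 ^ k := by
      rw [pow_succ]
      exact Nat.gcd_eq_right (dvd_mul_right _ _)
    rw [Nat.succ_eq_add_one, h1, pow_succ, Nat.mul_div_cancel_left _ (by positivity)]
  · push_cast
    exact (show Commute (c : G) x from hcx).pow_left _

end Cfsg.Agent.H835.Mon
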