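import Cfsg.Agent.H835.Mon.Dat

/-!
# Subgroups of the Monster of order divisible by `2^46 · 71` (helper835)
-/

set_option autoImplicit false

namespace Cfsg.Agent.H835.Mon

open Subgroup
open Cfsg Cfsg.Spor Cfsg.Agent.MonsterU.Lam2 Cfsg.Agent.Co2Type.Quad
open Cfsg.Agent.MonsterU.Ch (Chart)
open Cfsg.Spor (Co1)
open Cfsg.Agent.OrdDiv Cfsg.Agent.H940.Eng Cfsg.Agent.H940.Eng.D Cfsg.Agent.H417.Quasi

variable {G : Type} [Group G] {Q : Subgroup G} {z : G} {eta : G → L2}
  {pi : Subgroup.centralizer ({z} : Set G) →* Co1} (d : Dat G Q z eta pi)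
include d

/-- no involution commutes with an element of prime order `r`, `r ∤ |C(z)|, |C(t)|` -/
theorem Dat.no_comm {r : ℕ} (h1 : ¬ r ∣ 2 ^ 25 * 4157776806543360000) (h2 : ¬ r ∣ 2 * 4154781481226426191177580544000000)
    {x v : G} (hx : orderOf x = r) (hv : orderOf v = 2) (hxv : v * x = x * v) : False := by
  have h3 : r ∣ Nat.card (centralizer ({v} : Set G)) := by
    rw [← hx]
    exact Subgroup.orderOf_dvd_natCard _ (mem_centralizer_singleton_iff.2 hxv.symm)
  rcases d.cls v hv with h4 | h4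
  · rw [h4] at h3; exact h1 h3
  · rw [h4] at h3; exact h2 h3

/-- the order of a simple subgroup -/
theorem Dat.simple_card {H : Subgroup G} (M : Subgroup H) (hM : IsSimpleGroup M) :
    (Nat.card M).Prime ∨ Nat.card M ∈ o_m := by
  have := d.fin
  by_cases hab : ∀ a b : M, a * b = b * a
  · left
    let _ : CommGroup M := { (inferInstance : Group M) with mul_comm := hab }
    exact IsSimpleGroup.prime_card (α := M)
  · right
    refine d.ords M hM hab ?_
    rw [← d.card]
    exact (card_subgroup_dvd_card M).trans (card_subgroup_dvd_card H)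

theorem Dat.top_of_card {H : Subgroup G} (M : Subgroup H) (hM : Nat.card M = n_m) : H = ⊤ := by
  have := d.fin
  apply eq_top_of_le_card
  rw [d.card, ← hM]
  exact Nat.le_of_dvd Nat.card_pos (card_subgroup_dvd_card M)

theorem Dat.top_of_71' {S : Subgroup G} (hS : SS Q z S) {K : Subgroup G} (hSK : S ≤ K) (h71 : 71 ∣ Nat.card K) : K = ⊤ := by
  have := d.fin
  have hp71 : Nat.Prime 71 := by norm_num
  have hf71 : Fact (Nat.Prime 71) := ⟨hp71⟩
  have hf2 : Fact (Nat.Prime 2) := ⟨Nat.prime_two⟩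
  have hn1 : ¬ 71 ∣ 2 ^ 25 * 4157776806543360000 := by norm_num
  have hn2 : ¬ 71 ∣ 2 * 4154781481226426191177580544000000 := by norm_num
  have hr2 : ¬ 71 ^ 2 ∣ Nat.card K := by
    intro h
    have h1 : 71 ^ 2 ∣ n_m := by
      rw [← d.card]
      exact h.trans (card_subgroup_dvd_card K)
    exact absurd (Nat.mod_eq_zero_of_dvd h1) (by decide +kernel)
  obtain ⟨x, hx⟩ := exists_prime_orderOf_dvd_card' (G := K) 71 h71
  obtain ⟨P, hP⟩ := exists_sylow_eq hr2 hx
  have hxG : orderOf (x : G) = 71 := by rw [Subgroup.orderOf_coe, hx]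
  have hno : ∀ N : Subgroup K, N.Normal → ¬ 71 ∣ Nat.card N → N = ⊥ := by
    intro N hN hN71
    by_contra hb
    have hN2 : 2 ∣ Nat.card N := by
      by_contra h2
      exact hb (d.odd_eq_bot hS hSK N hN h2)
    obtain ⟨R, hR⟩ := exists_normalized P N hN71 2
    set R' : Subgroup K := (R : Subgroup N).map N.subtype with hR'
    have hR'p : IsPGroup 2 R' := R.isPGroup'.map N.subtype
    have hR'b : Nontrivial R' := by
      rw [Subgroup.nontrivial_iff_ne_bot]
      intro h
      have h1 : (R : Subgroup N) = ⊥ := (map_eq_bot_iff_of_injective _ N.subtype_injective).1 h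
      have h2 : 2 ∣ Nat.card R := R.dvd_card_of_dvd_card hN2
      rw [show Nat.card R = Nat.card ↥(R : Subgroup N) from rfl, h1, card_bot] at h2
      norm_num at h2
    let A : Subgroup K :=
      { carrier := {a | a ∈ R' ∧ (∀ b ∈ R', b * a = a * b) ∧ a ^ 2 = 1}
        one_mem' := ⟨R'.one_mem, fun b _ => by rw [mul_one, one_mul], one_pow 2⟩
        mul_mem' := by
          rintro a b ⟨ha, hac, ha2⟩ ⟨hb, hbc, hb2⟩
          refine ⟨R'.mul_mem ha hb, fun c hc => ?_, ?_⟩
          · rw [← mul_assoc, hac c hc, mul_assoc, hbc c hc, mul_assoc]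
          · rw [(show Commute a b from hbc a ha).mul_pow, ha2, hb2, one_mul]
        inv_mem' := by
          rintro a ⟨ha, hac, ha2⟩
          refine ⟨R'.inv_mem ha, fun c hc => ?_, by rw [inv_pow, ha2, inv_one]⟩
          exact ((show Commute c a from hac c hc).inv_right).eq }
    have hA : ∀ a, a ∈ A ↔ a ∈ R' ∧ (∀ b ∈ R', b * a = a * b) ∧ a ^ 2 = 1 := fun a => Iff.rfl
    have hAR : A ≤ R' := fun a ha => ha.1
    have hAp : IsPGroup 2 A := hR'p.to_le hAR
    obtain ⟨k, hk⟩ := IsPGroup.iff_card.1 hAp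
    have hk15 : k ≤ 15 := by
      have h1 := d.rank (A.map K.subtype) (by
        rintro _ ⟨a, ha, rfl⟩ _ ⟨b, hb, rfl⟩
        exact congrArg K.subtype (hb.2.1 a ha.1)) (by
        rintro _ ⟨a, ha, rfl⟩
        exact congrArg K.subtype ha.2.2)
      rw [card_map_sub, hk] at h1
      exact (Nat.pow_le_pow_iff_right (by norm_num)).1 h1
    have hPA : (P : Subgroup K) ≤ normalizer (A : Set K) := by
      have key : ∀ p ∈ (P : Subgroup K), ∀ a ∈ A, p * a * p⁻¹ ∈ A := by
        intro p hp a ha
        have hpR := mem_normalizer_iff.1 (hR hp)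
        rw [hA]
        refine ⟨(hpR a).1 ha.1, fun b hb => ?_, ?_⟩
        · have h1 : p⁻¹ * b * p ∈ R' := by
            refine (hpR _).2 ?_
            have e : p * (p⁻¹ * b * p) * p⁻¹ = b := by group
            rwa [e]
          have h2 := ha.2.1 _ h1
          calc b * (p * a * p⁻¹) = p * ((p⁻¹ * b * p) * a) * p⁻¹ := by group
            _ = p * (a * (p⁻¹ * b * p)) * p⁻¹ := by rw [h2]
            _ = p * a * p⁻¹ * b := by group
        · calc (p * a * p⁻¹) ^ 2 = p * a ^ 2 * p⁻¹ := by rw [pow_two, pow_two]; group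
            _ = 1 := by rw [ha.2.2]; group
      intro p hp
      rw [mem_normalizer_iff]
      intro a
      refine ⟨fun ha => key p hp a ha, fun ha => ?_⟩
      have := key p⁻¹ ((P : Subgroup K).inv_mem hp) _ ha
      have e : p⁻¹ * (p * a * p⁻¹) * p⁻¹⁻¹ = a := by group
      rwa [e] at this
    have hcen := centralizes_of_normalizes (P : Subgroup K) A P.isPGroup' Nat.prime_two (by norm_num) hk
      (triv71.of_dvd (pow_dvd_pow 2 hk15)) hPA
    -- an involution of `A`
    have hcb : Nontrivial (center R') := hR'p.center_nontrivial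
    obtain ⟨c, hc⟩ := exists_ne (1 : center R')
    obtain ⟨j, hj⟩ := (IsPGroup.iff_orderOf.1 hR'p) c
    have hj0 : j ≠ 0 := by
      rintro rfl
      rw [pow_zero, orderOf_eq_one_iff] at hj
      exact hc (Subtype.ext hj)
    obtain ⟨j, rfl⟩ := Nat.exists_eq_succ_of_ne_zero hj0
    set u : R' := (c : R') ^ 2 ^ j with hu
    have huo : orderOf u = 2 := by
      rw [hu, orderOf_pow, hj]
      have h1 : Nat.gcd (2 ^ (j + 1)) (2 ^ j) = 2 ^ j := by
        rw [pow_succ]
        exact Nat.gcd_eq_right (dvd_mul_right _ _)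
      rw [Nat.succ_eq_add_one, h1, pow_succ, Nat.mul_div_cancel_left _ (by positivity)]
    have huc : u ∈ center R' := (center R').pow_mem c.2 _
    have huA : (u : K) ∈ A := by
      rw [hA]
      refine ⟨u.2, fun b hb => congrArg Subtype.val (mem_center_iff.1 huc ⟨b, hb⟩), ?_⟩
      have : u ^ 2 = 1 := by rw [← huo, pow_orderOf_eq_one]
      exact congrArg Subtype.val this
    have hux := mem_centralizer_iff.1 (hcen huA) x (by
      show x ∈ (P : Subgroup K)
      rw [hP]
      exact mem_zpowers x)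
    refine d.no_comm hn1 hn2 hxG (v := ((u : K) : G)) ?_ (congrArg Subtype.val hux).symm
    rw [Subgroup.orderOf_coe, Subgroup.orderOf_coe, huo]
  obtain ⟨M, hM, hMs, h71M⟩ := exists_simple_normal hp71 h71 hr2 hno
  have hPM : (P : Subgroup K) ≤ M := by
    refine le_of_dvd P ?_ M h71M
    rw [show Nat.card P = Nat.card ↥(P : Subgroup K) from rfl, hP, Nat.card_zpowers, hx]
  have hMc : Nat.card M ∣ 178920 ∨ Nat.card M = n_m := by
    rcases d.simple_card M hMs with h | h
    · left
      rw [((Nat.prime_dvd_prime_iff_eq hp71 h).1 h71M).symm]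
      norm_num
    · rcases tab5 _ h h71M with h1 | h1
      · left; rw [h1]
      · exact Or.inr h1
  rcases hMc with hMc | hMc
  · exfalso
    have hfr : normalizer ((P : Subgroup K) : Set K) ⊔ M = ⊤ := by
      have h1 := Sylow.normalizer_sup_eq_top (P.subtype hPM)
      have h2 : ((P.subtype hPM : Sylow 71 M) : Subgroup M).map M.subtype = (P : Subgroup K) := by
        rw [Sylow.coe_subtype, subgroupOf_map_subtype, inf_eq_left.2 hPM]
      rwa [h2] at h1
    set N := normalizer ((P : Subgroup K) : Set K) with hN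
    have hcard : Nat.card K ∣ 178920 * Nat.card N := by
      have h1 := card_sup_mul_card_inf M N
      rw [sup_comm, hfr, card_top] at h1
      exact (Dvd.intro _ h1).trans (Nat.mul_dvd_mul_right hMc _)
    have h2 : 2 ^ 43 ∣ Nat.card N := by
      have h3 : 2 ^ 46 ∣ 178920 * Nat.card N := by
        refine dvd_trans ?_ hcard
        rw [← hS.card]
        exact card_dvd_of_le hSK
      have h4 : 2 ^ 3 * 2 ^ 43 ∣ 2 ^ 3 * (22365 * Nat.card N) := by
        rw [← pow_add, ← mul_assoc]
        exact h3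
      have h5 := Nat.dvd_of_mul_dvd_mul_left (by norm_num) h4
      exact (Nat.Coprime.pow_left 43 (by norm_num : Nat.Coprime 2 22365)).dvd_of_dvd_mul_left h5
    obtain ⟨T, hT⟩ := Sylow.exists_subgroup_card_pow_prime 2 h2
    have hTp : IsPGroup 2 ↥(T.map N.subtype) := IsPGroup.of_card (n := 43) (by rw [card_map_sub, hT])
    obtain ⟨v, hv, hvo, hvx⟩ := exists_inv hx (T.map N.subtype) hTp (by rw [card_map_sub, hT]; norm_num) (by
      rintro _ ⟨t, ht, rfl⟩
      have h3 := (mem_normalizer_iff.1 (hN ▸ t.2 : (t : K) ∈ normalizer ((P : Subgroup K) : Set K)) x).1 (by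
        rw [hP]; exact mem_zpowers x)
      rw [hP] at h3
      exact h3)
    exact d.no_comm hn1 hn2 hxG (v := (v : G)) (by rw [Subgroup.orderOf_coe, hvo]) (congrArg Subtype.val hvx)
  · exact d.top_of_card M hMc

/-- **subgroups of order divisible by `2^46 · 71`** -/
theorem Dat.top_of_71 {K : Subgroup G} (h2 : 2 ^ 46 ∣ Nat.card K) (h71 : 71 ∣ Nat.card K) : K = ⊤ := by
  have := d.fin
  have hf2 : Fact (Nat.Prime 2) := ⟨Nat.prime_two⟩
  obtain ⟨S, hS⟩ := d.exists_SS
  obtain ⟨T, hT⟩ := Sylow.exists_subgroup_card_pow_prime 2 h2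
  have hodd : ∀ A : Subgroup G, Nat.card A = 2 ^ 46 → ¬ 2 ∣ A.index := by
    intro A hA h
    have h1 : 2 ^ 47 ∣ n_m := by
      rw [← d.card, ← card_mul_index A, hA, pow_succ 2 46]
      exact Nat.mul_dvd_mul_left _ h
    exact absurd (pow_le h1) (by norm_num)
  have hT' : Nat.card ↥(T.map K.subtype) = 2 ^ 46 := by rw [card_map_sub, hT]
  let PT := (IsPGroup.of_card hT').toSylow (hodd _ hT')
  let PS := (IsPGroup.of_card hS.card).toSylow (hodd _ hS.card)
  obtain ⟨g, hg⟩ := MulAction.exists_smul_eq G PT PS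
  have h3 : ((g • PT : Sylow 2 G) : Subgroup G) = S := by rw [hg]; rfl
  rw [Sylow.coe_subgroup_smul] at h3
  have h4 : S ≤ K.map (MulAut.conj g).toMonoidHom := by
    intro s hs
    rw [← h3] at hs
    obtain ⟨t, ht, rfl⟩ := hs
    exact ⟨t, map_subtype_le T ht, rfl⟩
  have h5 := d.top_of_71' hS h4 (by rw [Cfsg.Agent.H940.MaxCls.card_map_conj]; exact h71)
  apply (card_eq_iff_eq_top K).1
  rw [← Cfsg.Agent.H940.MaxCls.card_map_conj g K, h5, card_top]

end Cfsg.Agent.H835.Mon
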